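import Cfsg.Agent.Lib.Known.CyclicTorus.Main
import Cfsg.Agent.Lib.Known.AltTorus.Data
import Cfsg.Agent.Lib.Lie.Rel.OrderData

/-!
# Coordinates on the split torus of `F₄` and the twisted fixed points
-/

set_option autoImplicit false
set_option maxHeartbeats 1600000

namespace CfsgLib.Known.PrimeGraphF4

open Cfsg.Lie (chevF4)
open CfsgLib.Lie.Chev
open CfsgLib.Known.CyclicTorus (cvec castV castM wMat)
open scoped Matrix

/-- The split torus of `F₄(K)`. -/
abbrev HK (K : Type*) [Field K] : Subgroup ↥(chevF4.group K) := (chevRel certF4 K).HS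

/-- Logarithmic coordinates on the split torus. -/
structure Coord (K : Type*) [Field K] (q N : ℕ) (φ : ↥(chevF4.group K) →* ↥(chevF4.group K)) where
  co : ↥(HK K) → Fin chevF4.rank → ZMod N
  bij : Function.Bijective co
  add : ∀ a b, co (a * b) = co a + co b
  val_eq : ∀ (h : ↥(HK K)) (a : Fin chevF4.nroots → K), (chevRel certF4 K).IsMon (h : ↥(chevF4.group K)) 1 a →
    ∀ s t : Fin chevF4.nroots, a s = a t ↔
      castV (ZMod N) (cvec chevF4 auxF4 s) ⬝ᵥ co h = castV (ZMod N) (cvec chevF4 auxF4 t) ⬝ᵥ co h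
  val_one : ∀ (h : ↥(HK K)) (a : Fin chevF4.nroots → K), (chevRel certF4 K).IsMon (h : ↥(chevF4.group K)) 1 a →
    ∀ s : Fin chevF4.nroots, a s = 1 ↔ castV (ZMod N) (cvec chevF4 auxF4 s) ⬝ᵥ co h = 0
  twist : ∀ (m : (chevRel certF4 K).NS) (h : ↥(HK K)),
    (m : ↥(chevF4.group K)) * h * (m : ↥(chevF4.group K))⁻¹ = φ h ↔
      castM (ZMod N) (wMat (chevRel certF4 K) ((chevRel certF4 K).nsPerm m⁻¹)) *ᵥ co h = (q : ZMod N) • co h

variable {K : Type*} [Field K] {q N : ℕ} {φ : ↥(chevF4.group K) →* ↥(chevF4.group K)} (E : Coord K q N φ)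

theorem Coord.co_one : E.co 1 = 0 := by
  have h := E.add 1 1
  rw [one_mul] at h
  exact left_eq_add.1 h

theorem Coord.co_pow (h : ↥(HK K)) : ∀ n : ℕ, E.co (h ^ n) = (n : ZMod N) • E.co h
  | 0 => by simp [E.co_one]
  | n + 1 => by rw [pow_succ, E.add, Coord.co_pow h n, Nat.cast_succ, add_smul, one_smul]

theorem Coord.co_eq_zero {h : ↥(HK K)} : E.co h = 0 ↔ h = 1 :=
  ⟨fun e => E.bij.1 (e.trans E.co_one.symm), fun e => e ▸ E.co_one⟩

/-- Coordinates exist. -/
theorem exists_coord [Fintype K] {Q : ℕ} (hK : Fintype.card K = Q) (hN : N = Q - 1) (σ : K ≃+* K)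
    (hσ : ∀ b, σ b = b ^ q) : Nonempty (Coord K q N (fieldAut chevF4 σ).toMonoidHom) := by
  classical
  have hQ1 : 1 < Q := hK ▸ Fintype.one_lt_card
  have hNu : N = Nat.card Kˣ := by rw [hN, Nat.card_units, Nat.card_eq_fintype_card, hK]
  have : NeZero N := ⟨by omega⟩
  obtain ⟨lgE, -⟩ : ∃ e : Additive Kˣ ≃+ ZMod N, True :=
    ⟨hNu ▸ (MulEquiv.toAdditive (zmodCyclicMulEquiv (G := Kˣ) inferInstance).symm).trans
      (AddEquiv.additiveMultiplicative _), trivial⟩
  obtain ⟨lg, hlg⟩ : ∃ lg : Kˣ → ZMod N, ∀ u, lg u = lgE (Additive.ofMul u) := ⟨_, fun _ => rfl⟩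
  have hlg_mul : ∀ u v, lg (u * v) = lg u + lg v := fun u v => by rw [hlg, hlg, hlg, ofMul_mul, map_add]
  have hlg_zpow : ∀ (u : Kˣ) (z : ℤ), lg (u ^ z) = (z : ZMod N) * lg u := fun u z => by
    rw [hlg, hlg, ofMul_zpow, map_zsmul, zsmul_eq_mul]
  have hlg_prod : ∀ f : Fin chevF4.rank → Kˣ, lg (∏ i, f i) = ∑ i, lg (f i) := fun f => by
    rw [hlg, ofMul_prod, map_sum]
    exact Finset.sum_congr rfl fun i _ => (hlg _).symm
  have hlg_inj : Function.Injective lg := fun u v h => by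
    rw [hlg, hlg] at h
    exact Additive.ofMul.injective (lgE.injective h)
  have hlg_one : lg 1 = 0 := by rw [hlg, ofMul_one, map_zero]
  obtain ⟨val, hval⟩ : ∃ val : (Fin chevF4.rank → Kˣ) → Fin chevF4.nroots → Kˣ, ∀ c s,
      val c s = ∏ i : Fin chevF4.rank, c i ^ chevF4.cartan i s := ⟨_, fun _ _ => rfl⟩
  obtain ⟨kc, hkc⟩ : ∃ kc : (Fin chevF4.rank → Kˣ) → Fin chevF4.rank → ZMod N, ∀ c j,
      kc c j = lg (val c ((chevRel certF4 K).sroot j)) := ⟨_, fun _ _ => rfl⟩
  have hkc_val : ∀ c (s : Fin chevF4.nroots),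
      lg (val c s) = castV (ZMod N) (cvec chevF4 auxF4 s) ⬝ᵥ kc c := by
    intro c s
    simp only [dotProduct, hkc, hval, hlg_prod, hlg_zpow, castV, cvec, Finset.mul_sum]
    rw [Finset.sum_comm]
    refine Finset.sum_congr rfl fun i _ => ?_
    rw [certF4.cartan_eq s.2 i.2, Finset.sum_range, Int.cast_sum, Finset.sum_mul]
    refine Finset.sum_congr rfl fun j _ => ?_
    rw [Int.cast_mul, mul_assoc]
    rfl
  have hkc_mul : ∀ c c', kc (c * c') = kc c + kc c' := fun c c' => funext fun j => by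
    simp only [Pi.add_apply, hkc, hval, ← hlg_mul, ← Finset.prod_mul_distrib, Pi.mul_apply, mul_zpow]
  have hkc_one : kc 1 = 0 := funext fun j => by simp [hkc, hval, hlg_one]
  have hkc_pow : ∀ c (z : ℕ), kc (c ^ z) = (z : ZMod N) • kc c := by
    intro c z
    induction z with
    | zero => simpa using hkc_one
    | succ z ih => rw [pow_succ, hkc_mul, ih, Nat.cast_succ, add_smul, one_smul]
  have hd : ∀ i : Fin chevF4.rank, ([1, 1, 1, 1] : List ℕ).getD i 0 = 1 := by decide +kernel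
  have hker : ∀ c : Fin chevF4.rank → Kˣ, (chevRel certF4 K).torusHom c = 1 → c = 1 := fun c hc =>
    ChevFixed.torusHom_injective_of_smith certF4 cmat_F4 smithF4 (fun i => by rw [hd i, Nat.gcd_one_right]) c hc
  have hkc_inj : Function.Injective kc := by
    intro c c' h
    have h1 : kc (c / c') = 0 := by
      have h2 := hkc_mul (c / c') c'
      rw [div_mul_cancel, h] at h2
      exact add_eq_right.1 h2.symm
    refine div_eq_one.1 (hker _ ?_)
    refine MonoidHom.mem_ker.1 ((mem_torusHom_ker certF4 K _).2 (MonoidHom.mem_ker.2 (funext fun j => hlg_inj ?_)))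
    have h3 := congrFun h1 j
    rw [hkc, hval, Pi.zero_apply] at h3
    rw [Pi.one_apply, hlg_one, ← h3, powMat_apply]
    refine congrArg lg (Finset.prod_congr rfl fun i _ => congrArg _ ?_)
    simp [cmat, List.getD_eq_getElem?_getD, Rel.sroot]
  have hkc_surj : Function.Surjective kc := by
    refine ((Fintype.bijective_iff_injective_and_card kc).2 ⟨hkc_inj, ?_⟩).2
    rw [Fintype.card_fun, Fintype.card_fun, ZMod.card, hNu, Nat.card_eq_fintype_card]
  have hTinj : Function.Injective (chevRel certF4 K).torusHom := (injective_iff_map_eq_one _).2 hker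
  obtain ⟨inv', hinv'⟩ : ∃ g, Function.LeftInverse g (chevRel certF4 K).torusHom ∧
      Function.RightInverse g (chevRel certF4 K).torusHom :=
    Function.bijective_iff_has_inverse.1 ⟨hTinj, (chevRel certF4 K).torusHom_surjective⟩
  have hinv_mul : ∀ a b, inv' (a * b) = inv' a * inv' b := fun a b => hTinj (by
    rw [map_mul, hinv'.2, hinv'.2, hinv'.2])
  have hmon : ∀ (h : ↥(HK K)) (a : Fin chevF4.nroots → K),
      (chevRel certF4 K).IsMon (h : ↥(chevF4.group K)) 1 a → ∀ s, a s = ((val (inv' h) s : Kˣ) : K) := by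
    intro h a ha s
    have h1 := TrialityTorus.isMon_torusHom (chevRel certF4 K) (inv' h)
    rw [hinv'.2 h] at h1
    rw [congrFun ((chevRel certF4 K).isMon_unique ha h1).2 s, hval]
  refine ⟨⟨fun h => kc (inv' h), ⟨hkc_inj.comp fun a b e => ?_, hkc_surj.comp fun c => ⟨_, hinv'.1 c⟩⟩,
    fun a b => by rw [hinv_mul, hkc_mul], fun h a ha s t => ?_, fun h a ha s => ?_, fun m h => ?_⟩⟩
  · rw [← hinv'.2 a, ← hinv'.2 b, e]
  · rw [hmon h a ha, hmon h a ha, ← hkc_val, ← hkc_val, hlg_inj.eq_iff, Units.val_inj]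
  · rw [hmon h a ha, ← hkc_val, ← hlg_one, hlg_inj.eq_iff]
    exact Units.val_eq_one
  · obtain ⟨π, hπ⟩ : ∃ π, π = (chevRel certF4 K).nsPerm m := ⟨_, rfl⟩
    obtain ⟨h', hh'⟩ : ∃ h' : ↥(HK K), (h' : ↥(chevF4.group K)) =
        (m : ↥(chevF4.group K)) * h * (m : ↥(chevF4.group K))⁻¹ :=
      ⟨⟨_, (chevRel certF4 K).HS_conj m.2 h.2⟩, rfl⟩
    obtain ⟨c, hc⟩ : ∃ c, c = inv' h := ⟨_, rfl⟩
    obtain ⟨c', hc'⟩ : ∃ c', c' = inv' h' := ⟨_, rfl⟩
    have hT : ((chevRel certF4 K).torusHom c : ↥(chevF4.group K)) = h := by rw [hc, hinv'.2]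
    have hT' : ((chevRel certF4 K).torusHom c' : ↥(chevF4.group K)) = h' := by rw [hc', hinv'.2]
    have hdval : ∀ s, val c' (π s) = val c s := by
      intro s
      obtain ⟨b, hb⟩ := (chevRel certF4 K).isMon_nsPerm m
      have h1 := (chevRel certF4 K).isMon_mul ((chevRel certF4 K).isMon_mul hb
        (TrialityTorus.isMon_torusHom (chevRel certF4 K) c)) ((chevRel certF4 K).isMon_inv hb)
      rw [mul_one, mul_inv_cancel, hT, ← hh', ← hT'] at h1
      have h2 := congrFun ((chevRel certF4 K).isMon_unique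
        (TrialityTorus.isMon_torusHom (chevRel certF4 K) c') h1).2 (π s)
      refine Units.ext ?_
      rw [hval, hval]
      refine h2.trans ?_
      have hs : ((chevRel certF4 K).nsPerm m)⁻¹ (π s) = s := by
        rw [hπ, Equiv.Perm.inv_def, Equiv.symm_apply_apply]
      simp only [Equiv.Perm.one_apply, hs]
      rw [mul_comm (b s), mul_assoc, mul_inv_cancel₀ (hb s).1, mul_one]
    have hWd : castM (ZMod N) (wMat (chevRel certF4 K) π) *ᵥ kc c' = kc c := funext fun j => by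
      show castV (ZMod N) (cvec chevF4 auxF4 (π ((chevRel certF4 K).sroot j) : ℕ)) ⬝ᵥ kc c' = _
      rw [← hkc_val, hdval, hkc]
    have hinv : castM (ZMod N) (wMat (chevRel certF4 K) ((chevRel certF4 K).nsPerm m⁻¹)) *
        castM (ZMod N) (wMat (chevRel certF4 K) π) = 1 := by
      rw [castM, castM, ← map_mul, hπ, ← CyclicTorus.wMat_mul (chevRel certF4 K)
        ((chevRel certF4 K).isLin_nsPerm _), map_inv, mul_inv_cancel, CyclicTorus.wMat_one, map_one]
    have hφh : (fieldAut chevF4 σ) (h : ↥(chevF4.group K)) = (chevRel certF4 K).torusHom (c ^ q) := by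
      rw [← hT]
      refine (ChevFixed.fieldAut_torusHom certF4 σ c).trans ?_
      refine congrArg (fun c => (((chevRel certF4 K).torusHom c : HK K) : ↥(chevF4.group K)))
        (funext fun i => Units.ext ?_)
      simp [hσ]
    show _ = fieldAut chevF4 σ h ↔ castM _ _ *ᵥ kc (inv' h) = _ • kc (inv' h)
    rw [← hh', ← hT', hφh, Subtype.val_inj, hTinj.eq_iff, ← hc, ← hkc_inj.eq_iff, hkc_pow, ← hWd,
      Matrix.mulVec_mulVec, hinv, Matrix.one_mulVec, hWd]

end CfsgLib.Known.PrimeGraphF4
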