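import Cfsg.Agent.Lib.Known.PrimeGraphF4.Table
import Cfsg.Agent.Lib.Known.CyclicTorus.F4
import Cfsg.Agent.Lib.Known.Homocyclic.Eigen

/-!
# Modular eigenspaces of the Weyl group of `F₄` for eigenvalues of order 3, 4, 6, 8, 12
-/

set_option autoImplicit false
set_option maxHeartbeats 1600000

namespace CfsgLib.Known.PrimeGraphF4

open Cfsg.Lie (chevF4)
open CfsgLib.Lie.Chev
open CfsgLib.Known.CyclicTorus (cvec castV castM)
open CfsgLib.Known.AltTorus (keysF4)
open Polynomial (cyclotomic X C aeval)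
open scoped Matrix

/-- The orders considered. -/
def five : List ℕ := [3, 4, 6, 8, 12]

theorem five_facts {k : ℕ} (hk : k ∈ five) :
    k.totient ∣ 4 ∧ 1 < k ∧ k ∣ 24 ∧ (k.totient = 2 ∨ k.totient = 4) := by
  revert k
  decide

theorem cyclo_four : cyclotomic 4 ℤ = X ^ 2 + 1 := by
  rw [show (4 : ℕ) = 2 ^ (1 + 1) from rfl, Polynomial.cyclotomic_prime_pow_eq_geom_sum Nat.prime_two]
  simp [Finset.sum_range_succ, add_comm]

theorem cyclo_twelve : cyclotomic 12 ℤ = X ^ 4 - X ^ 2 + 1 := by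
  rw [show (12 : ℕ) = 6 * 2 from rfl, ← Polynomial.cyclotomic_expand_eq_cyclotomic Nat.prime_two (by norm_num),
    Polynomial.cyclotomic_six]
  simp [← pow_mul]

/-- The middle coefficient of the cyclotomic polynomial of order three, four or six. -/
def midB (k : ℕ) : ℤ := if k = 3 then 1 else if k = 4 then 0 else -1

theorem aeval_two {k : ℕ} (hk : k ∈ five) (h2 : k.totient = 2) (M : Matrix (Fin 4) (Fin 4) ℤ) :
    aeval M (cyclotomic k ℤ) = P2 (midB k) M := by
  simp only [five, List.mem_cons, List.not_mem_nil, or_false] at hk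
  rcases hk with rfl | rfl | rfl | rfl | rfl
  · simp [Polynomial.cyclotomic_three, P2, midB, sq]
  · simp [cyclo_four, P2, midB, sq]
  · simp [Polynomial.cyclotomic_six, P2, midB, sq, sub_eq_add_neg]
  · exact absurd h2 (by decide +kernel)
  · exact absurd h2 (by decide +kernel)

theorem cyclo_eval_two {k : ℕ} (hk : k ∈ five) (h2 : k.totient = 2) (z : ℤ) :
    (cyclotomic k ℤ).eval z = z * z + midB k * z + 1 := by
  simp only [five, List.mem_cons, List.not_mem_nil, or_false] at hk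
  rcases hk with rfl | rfl | rfl | rfl | rfl
  · simp [Polynomial.cyclotomic_three, midB, sq]
  · simp [cyclo_four, midB, sq]
  · simp [Polynomial.cyclotomic_six, midB, sq, sub_eq_add_neg]
  · exact absurd h2 (by decide +kernel)
  · exact absurd h2 (by decide +kernel)

theorem primitive_of_dvd {k q s : ℕ} [Fact s.Prime] (hks : ¬ s ∣ k)
    (hs : (s : ℤ) ∣ (cyclotomic k ℤ).eval (q : ℤ)) : IsPrimitiveRoot (q : ZMod s) k := by
  have : NeZero ((k : ℕ) : ZMod s) := ⟨fun h => hks ((ZMod.natCast_eq_zero_iff _ _).1 h)⟩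
  rw [← Polynomial.isRoot_cyclotomic_iff, Polynomial.IsRoot.def, ← Polynomial.map_cyclotomic_int,
    Polynomial.eval_map, show ((q : ℕ) : ZMod s) = Int.castRingHom (ZMod s) (q : ℤ) by simp,
    Polynomial.eval₂_at_apply]
  exact (ZMod.intCast_zmod_eq_zero_iff_dvd _ _).2 hs

theorem dvd_of_primitive {k q s : ℕ} [Fact s.Prime] (hks : ¬ s ∣ k) (h : IsPrimitiveRoot (q : ZMod s) k) :
    (s : ℤ) ∣ (cyclotomic k ℤ).eval (q : ℤ) := by
  have : NeZero ((k : ℕ) : ZMod s) := ⟨fun h => hks ((ZMod.natCast_eq_zero_iff _ _).1 h)⟩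
  rw [← Polynomial.isRoot_cyclotomic_iff, Polynomial.IsRoot.def, ← Polynomial.map_cyclotomic_int,
    Polynomial.eval_map, show ((q : ℕ) : ZMod s) = Int.castRingHom (ZMod s) (q : ℤ) by simp,
    Polynomial.eval₂_at_apply] at h
  exact (ZMod.intCast_zmod_eq_zero_iff_dvd _ _).1 h

/-- A full power of a cyclotomic polynomial dividing the characteristic polynomial. -/
theorem charpoly_eq {M : Matrix (Fin 4) (Fin 4) ℤ} {k b : ℕ} (hb : b * k.totient = 4)
    (hd : cyclotomic k ℤ ^ b ∣ M.charpoly) : M.charpoly = cyclotomic k ℤ ^ b :=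
  Polynomial.eq_of_monic_of_dvd_of_natDegree_le ((Polynomial.cyclotomic.monic k ℤ).pow b) M.charpoly_monic hd
    (by rw [Polynomial.natDegree_pow, Polynomial.natDegree_cyclotomic, Matrix.charpoly_natDegree_eq_dim,
      Fintype.card_fin, hb])

theorem aeval_cyclo_eq_zero {M : Matrix (Fin 4) (Fin 4) ℤ} {o : ℕ} (ho : 0 < o) (hM : M ^ o = 1) {k b : ℕ}
    (hb : b * k.totient = 4) (hd : cyclotomic k ℤ ^ b ∣ M.charpoly) : aeval M (cyclotomic k ℤ) = 0 :=
  Homocyclic.aeval_eq_zero_of_dvd_pow ho hM (charpoly_eq hb hd).dvd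

/-- Some eigenvector exists for every root of the cyclotomic polynomial. -/
theorem exists_eigvec {M : Matrix (Fin 4) (Fin 4) ℤ} {k b : ℕ} (hb : b * k.totient = 4)
    (hd : cyclotomic k ℤ ^ b ∣ M.charpoly) {q s : ℕ} [Fact s.Prime]
    (hs : (s : ℤ) ∣ (cyclotomic k ℤ).eval (q : ℤ)) :
    ∃ v : Fin 4 → ZMod s, v ≠ 0 ∧ castM (ZMod s) M *ᵥ v = (q : ZMod s) • v := by
  have hb0 : b ≠ 0 := fun h => by rw [h, zero_mul] at hb; omega
  have h1 : ((castM (ZMod s) M).charpoly).eval (q : ZMod s) = 0 := by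
    show ((M.map (Int.castRingHom (ZMod s))).charpoly).eval _ = 0
    rw [Matrix.charpoly_map, charpoly_eq hb hd, Polynomial.map_pow, Polynomial.eval_pow,
      show ((q : ℕ) : ZMod s) = Int.castRingHom (ZMod s) (q : ℤ) by simp, Polynomial.eval_map,
      Polynomial.eval₂_at_apply]
    rw [show Int.castRingHom (ZMod s) ((cyclotomic k ℤ).eval (q : ℤ)) = 0 from
      (ZMod.intCast_zmod_eq_zero_iff_dvd _ _).2 hs, zero_pow hb0]
  rw [Matrix.eval_charpoly] at h1
  obtain ⟨v, hv, hMv⟩ := Matrix.exists_mulVec_eq_zero_iff.2 h1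
  rw [Matrix.sub_mulVec, sub_eq_zero] at hMv
  exact ⟨v, hv, hMv.symm.trans (funext fun i => by simp [Matrix.scalar_apply, Matrix.mulVec_diagonal])⟩

theorem rv_negF {K : Type*} [Field K] (s : Fin chevF4.nroots) :
    rv ((chevRel certF4 K).negF s : ℕ) = -rv (s : ℕ) := by
  have h := CyclicTorus.cvec_negF (chevRel certF4 K) s
  rw [cvecF4_eq, cvecF4_eq] at h
  exact h

/-- Regularity for eigenvalues of order eight and twelve: a nonzero eigenvector is orthogonal to no root. -/
theorem root_ne_zero_four {K : Type*} [Field K] [Fintype K] (n : (chevRel certF4 K).NS) {k : ℕ}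
    (hk : k = 8 ∨ k = 12) (h0 : aeval (CyclicTorus.wMat (chevRel certF4 K) ((chevRel certF4 K).nsPerm n))
      (cyclotomic k ℤ) = 0) {r : ℕ} [Fact r.Prime] (hr : 17 ≤ r ∨ k = 12 ∧ 5 ≤ r) {c : ZMod r}
    {v : Fin 4 → ZMod r} (hv : castM (ZMod r) (kM (AltTorus.key (chevRel certF4 K)
      ((chevRel certF4 K).nsPerm n))) *ᵥ v = c • v) (hv0 : v ≠ 0) (s : Fin chevF4.nroots) :
    castV (ZMod r) (rv (s : ℕ)) ⬝ᵥ v ≠ 0 := by
  obtain ⟨L, hL⟩ : ∃ L, L = AltTorus.key (chevRel certF4 K) ((chevRel certF4 K).nsPerm n) := ⟨_, rfl⟩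
  have hmem : L ∈ keysF4 := hL ▸ AltTorus.key_mem (chevRel certF4 K) AltTorus.chkKeysF4 n
  have hW : kM L = CyclicTorus.wMat (chevRel certF4 K) ((chevRel certF4 K).nsPerm n) := by
    rw [kM_eq, hL, AltTorus.keyMat_key]
  have hrp : r.Prime := Fact.out
  have hr5 : 5 ≤ r := by omega
  rw [← hL] at hv
  have hdet : ∀ s : Fin chevF4.nroots, half chevF4 ≤ (s : ℕ) →
      ¬ (r : ℤ) ∣ (CyclicTorus.kry (kM L) (rv (s : ℕ))).det := by
    intro s hs
    rcases hk with rfl | rfl
    · have hr17 : 17 ≤ r := hr.resolve_right fun h => by norm_num at h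
      have h := (CyclicTorus.gramOK_F4 (P := 1) hrp hr17 (kM L) (fun t => ⟨(chevRel certF4 K).nsPerm n t,
        by rw [hW]; exact CyclicTorus.vecMul_wMat (chevRel certF4 K) ((chevRel certF4 K).isLin_nsPerm n) t⟩)
        (by rw [hW]; exact CyclicTorus.bil_invariant (chevRel certF4 K) CyclicTorus.bilF4 n)
        (by rw [hW]; exact h0)).1 s
      rw [cvecF4_eq] at h
      exact h
    · refine indep_four hmem ?_ (s := (s : ℕ)) ?_ s.2 hrp hr5
      · rw [hW, neg_one_smul, ← sub_eq_add_neg]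
        refine Eq.trans ?_ h0
        rw [cyclo_twelve, map_add, map_sub, map_pow, map_pow, Polynomial.aeval_X, map_one]
        rfl
      · exact le_of_eq_of_le (by decide +kernel : (24 : ℕ) = half chevF4) hs
  have hpos : ∀ s : Fin chevF4.nroots, half chevF4 ≤ (s : ℕ) → castV (ZMod r) (rv (s : ℕ)) ⬝ᵥ v ≠ 0 := by
    intro s hs hα
    have h1 : castM (ZMod r) (CyclicTorus.kry (kM L) (rv (s : ℕ))) *ᵥ v = 0 := by
      rw [CyclicTorus.kry_mulVec hv, hα]
      funext i
      simp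
    have h2 := CyclicTorus.det_smul_eq_zero h1
    refine hv0 ((smul_eq_zero.1 h2).resolve_left fun h => hdet s hs ?_)
    exact (ZMod.intCast_zmod_eq_zero_iff_dvd _ _).1 h
  by_cases hs : half chevF4 ≤ (s : ℕ)
  · exact hpos s hs
  · intro h
    refine hpos _ (((chevRel certF4 K).negF_pos_iff s).2 hs) ?_
    rw [rv_negF, show castV (ZMod r) (-rv (s : ℕ)) = -castV (ZMod r) (rv (s : ℕ)) from
      funext fun i => Int.cast_neg _, neg_dotProduct, h, neg_zero]

/-- Regularity for eigenvalues of order three, four and six: the whole eigenspace is orthogonal to no root. -/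
theorem root_ne_zero_two {L : List ℕ} (hL : L ∈ keysF4) {k : ℕ} (hk : k ∈ five) (h2 : k.totient = 2)
    (h0 : aeval (kM L) (cyclotomic k ℤ) = 0) {r q : ℕ} [Fact r.Prime] (hr : 5 ≤ r)
    (hq : (r : ℤ) ∣ (cyclotomic k ℤ).eval (q : ℤ)) {s : ℕ} (hs : s < 48) :
    ∃ v : Fin 4 → ZMod r, castM (ZMod r) (kM L) *ᵥ v = (q : ZMod r) • v ∧ castV (ZMod r) (rv s) ⬝ᵥ v ≠ 0 := by
  rw [aeval_two hk h2] at h0
  obtain ⟨M, hM⟩ : ∃ M, M = castM (ZMod r) (kM L) := ⟨_, rfl⟩
  obtain ⟨c, hc⟩ : ∃ c : ZMod r, c = (q : ZMod r) + (midB k : ZMod r) := ⟨_, rfl⟩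
  obtain ⟨H, hH⟩ : ∃ H : Matrix (Fin 4) (Fin 4) (ZMod r), H = M + c • (1 : Matrix (Fin 4) (Fin 4) (ZMod r)) :=
    ⟨_, rfl⟩
  have hz : (q : ZMod r) * q + (midB k : ZMod r) * q + 1 = 0 := by
    have := (ZMod.intCast_zmod_eq_zero_iff_dvd _ r).2 hq
    rw [cyclo_eval_two hk h2] at this
    simpa using this
  have hcol : ∀ j : Fin 4, M *ᵥ (fun i => H i j) = (q : ZMod r) • fun i => H i j := by
    have h1 : M * M + (midB k : ZMod r) • M + 1 = 0 := by
      have := congrArg (castM (ZMod r)) h0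
      simp only [castM, P2, map_add, map_mul, map_zsmul, map_one, map_zero, one_smul] at this
      rw [Int.cast_smul_eq_zsmul, hM]
      exact this
    have h3 : M * H = (q : ZMod r) • H := by
      rw [hH, mul_add, Matrix.mul_smul, mul_one, smul_add, smul_smul]
      have e1 : M * M = -((midB k : ZMod r) • M) - 1 := by linear_combination (norm := abel) h1
      have e2 : (q : ZMod r) * c = -1 := by rw [hc]; linear_combination hz
      rw [e1, e2, hc, add_smul, neg_one_smul]
      abel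
    intro j
    funext i
    exact congrFun (congrFun h3 i) j
  by_contra hall
  simp only [not_exists, not_and, not_not] at hall
  refine indep_two hL (b := midB k) ?_ h0 hs Fact.out hr (-c) fun j => ?_
  · simp only [five, List.mem_cons, List.not_mem_nil, or_false] at hk
    rcases hk with rfl | rfl | rfl | rfl | rfl <;> simp [midB]
  · have h := hall _ (hM ▸ hcol j)
    have h' : (castV (ZMod r) (rv s) ᵥ* H) j = 0 := h
    rw [hH, Matrix.vecMul_add, Matrix.vecMul_smul, Matrix.vecMul_one, hM, ← CyclicTorus.castV_vecMul] at h'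
    simp only [Pi.add_apply, Pi.smul_apply, smul_eq_mul, castV] at h'
    linear_combination h'

end CfsgLib.Known.PrimeGraphF4
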