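import Cfsg.Agent.Lib.Lie.Rel.StChar
import Cfsg.Agent.Lib.Lie.Rel.ParabolicFacts
import Cfsg.Agent.Lib.Lie.Rel.OrderData
import Cfsg.Agent.Lib.Lie.Rel.Checks
import Cfsg.Agent.Lib.Lie.Rel.Coxeter

/-!
# The commuting subgroups of types `A₁` and `C₃` of `F₄(q)`
-/

set_option autoImplicit false
set_option maxHeartbeats 1600000

namespace CfsgLib.Known.PrimeGraphF4

open Cfsg.Lie (ChevalleyDatum chevF4)
open CfsgLib.Lie.Chev

section General

variable {D : ChevalleyDatum} {X : Aux} {F : Type*} [Field F] [Finite F] {G : Type*} [Group G] (R : Rel D X F G)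
include R

omit [Finite F] in
theorem fixes_iff_wJ {S : List ℕ} {K : Set ℕ} (hSK : ∀ i < D.rank, i ∈ S ↔ i ∉ K) (x : R.WQ) :
    x ∈ R.wJ K ↔ R.Fixes S x := by
  refine ⟨fun hx j hj r => R.coef_wJ hx j.2 ((hSK j j.2).1 hj) r, ?_⟩
  induction hn : R.invN x using Nat.strong_induction_on generalizing x with
  | _ m ih =>
    intro hx
    by_cases h1 : x = 1
    · rw [h1]; exact one_mem _
    obtain ⟨k, hk⟩ := R.exists_descent h1
    have hkS := R.descent_notMem hx hk
    have hkK : (k : ℕ) ∈ K := by_contra fun h => hkS ((hSK k k.2).2 h)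
    have hlt := R.invN_mul_simple hk
    have h2 := mul_mem (ih _ (by omega) (x * R.qgen k) rfl (R.fixes_mul hx (R.fixes_qgen hkS)))
      (R.qgen_mem_wJ (J := K) hkK)
    rwa [R.qgen_genInv.cancel_right] at h2

theorem card_PJ [Fintype R.WQ] [Finite G] {S : List ℕ} {K : Set ℕ} (hSK : ∀ i < D.rank, i ∈ S ↔ i ∉ K) :
    Nat.card (R.PJ K) = Nat.card R.BS * R.fixSum S (Nat.card F) := by
  classical
  have hBS : R.PJ (∅ : Set ℕ) = R.BS := by
    rw [Rel.PJ, show R.NJ (∅ : Set ℕ) = ⊥ from ?_, sup_bot_eq]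
    rw [Rel.NJ, Subgroup.closure_eq_bot_iff]
    rintro g ⟨i, hi, -⟩
    exact absurd hi (Set.notMem_empty _)
  have h1 : Nat.card (R.Cosets ∅ K) = (R.PJ (∅ : Set ℕ)).relIndex (R.PJ K) := by
    rw [Subgroup.relIndex, Subgroup.index_eq_card]
    refine (Nat.card_congr (Equiv.ofBijective (Quotient.lift
      (fun g : ↥(R.PJ K) => (⟨((g : G) : G ⧸ R.PJ (∅ : Set ℕ)), g, g.2, rfl⟩ : R.Cosets ∅ K)) ?_) ⟨?_, ?_⟩)).symm
    · intro a b hab
      replace hab : QuotientGroup.leftRel _ a b := hab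
      rw [QuotientGroup.leftRel_apply, Subgroup.mem_subgroupOf] at hab
      exact Subtype.ext (QuotientGroup.eq.2 hab)
    · intro a b
      induction a using Quotient.inductionOn with
      | h a =>
        induction b using Quotient.inductionOn with
        | h b =>
          intro e
          refine Quotient.sound ?_
          show (QuotientGroup.leftRel _) a b
          rw [QuotientGroup.leftRel_apply, Subgroup.mem_subgroupOf]
          exact QuotientGroup.eq.1 (congrArg Subtype.val e)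
    · rintro ⟨c, g, hg, rfl⟩
      exact ⟨Quotient.mk _ ⟨g, hg⟩, rfl⟩
  have h2 := R.card_Cosets (J := ∅) (Set.empty_subset K)
  have h3 : (∑ x : R.WQ, if x ∈ R.wJ K ∧ R.IsMin ∅ x then Nat.card F ^ R.invN x else 0) =
      R.fixSum S (Nat.card F) := by
    rw [Rel.fixSum, Finset.sum_filter]
    refine Finset.sum_congr rfl fun x _ => ?_
    have hmin : R.IsMin ∅ x := fun k hk => absurd hk (Set.notMem_empty k)
    simp only [hmin, and_true, fixes_iff_wJ R hSK]
  rw [← h3, ← h2, h1, hBS, Subgroup.relIndex, mul_comm, ← Nat.card_congr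
    (Subgroup.subgroupOfEquivOfLe (show R.BS ≤ R.PJ K from le_sup_left)).toEquiv, Subgroup.index_mul_card]

omit [Finite F] in
/-- A prime dividing the order of a parabolic subgroup divides the order of the subgroup of its root subgroups,
unless it divides that of the radical or of the torus. -/
theorem dvd_card_sub [Finite G] (hD : Desc D X) (J : Set ℕ) {s : ℕ} (hs : s.Prime)
    (h : s ∣ Nat.card (R.PJ J)) (h1 : ¬ s ∣ Nat.card (R.UR J)) (h2 : ¬ s ∣ Nat.card R.HS) :
    s ∣ Nat.card (R.US (subSet D X J)) := by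
  have key : ∀ H K : Subgroup G, H ≤ Subgroup.normalizer (K : Set G) →
      Nat.card ↥(H ⊔ K) ∣ Nat.card H * Nat.card K := by
    intro H K hHK
    rw [← Subgroup.card_mul_index (K.subgroupOf (H ⊔ K)),
      Nat.card_congr (Subgroup.subgroupOfEquivOfLe (le_sup_right : K ≤ H ⊔ K)).toEquiv, ← Subgroup.relIndex,
      mul_comm (Nat.card H)]
    refine mul_dvd_mul_left _ ?_
    have := Subgroup.normal_subgroupOf_of_le_normalizer hHK
    have := Subgroup.normal_subgroupOf_sup_of_le_normalizer hHK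
    rw [Subgroup.relIndex, Subgroup.index_eq_card,
      Nat.card_congr (QuotientGroup.quotientInfEquivProdNormalizerQuotient H K hHK).toEquiv.symm,
      ← Subgroup.index_eq_card]
    exact (K.subgroupOf H).index_dvd_card
  have e1 : R.LJ J ≤ Subgroup.normalizer (R.UR J : Set G) := by
    refine le_trans ?_ (R.PJ_le_normalizer J hD)
    rw [← R.UR_sup_LJ J hD]
    exact le_sup_right
  have h3 : s ∣ Nat.card (R.LJ J) := by
    have := key _ _ e1
    rw [sup_comm, R.UR_sup_LJ J hD] at this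
    exact (hs.dvd_mul.1 (h.trans this)).resolve_right h1
  have h4 := key R.HS (R.US (subSet D X J)) (R.HS_le_normalizer_US _)
  exact (hs.dvd_mul.1 (h3.trans h4)).resolve_left h2

end General

/-! ### `F₄` -/

variable (F : Type*) [Field F] [Fintype F]

/-- The roots in the span of the first three simple roots commute with the highest root and its negative. -/
theorem comm_top : ∀ r : Fin chevF4.nroots, auxF4.coef 3 r = 0 →
    ((r : ℕ) ≠ 47 ∧ (r : ℕ) ≠ 0 ∧ chevF4.commTerms 47 r = [] ∧ chevF4.commTerms 0 r = []) := by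
  decide +kernel

/-- The subgroup of the root subgroups in the span of the first three simple roots. -/
def Lsub : Subgroup ↥(chevF4.group F) := (chevRel certF4 F).US (subSet chevF4 auxF4 {0, 1, 2})

/-- The subgroup of the root subgroups of the highest root and its negative. -/
def Asub : Subgroup ↥(chevF4.group F) := (chevRel certF4 F).US {r : Fin chevF4.nroots | (r : ℕ) = 47 ∨ (r : ℕ) = 0}

theorem Lsub_Asub_commute {x y : ↥(chevF4.group F)} (hx : x ∈ Lsub F) (hy : y ∈ Asub F) : Commute x y := by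
  have h : Lsub F ≤ Subgroup.centralizer (Asub F : Set ↥(chevF4.group F)) := by
    refine (chevRel certF4 F).US_le fun r hr t => ?_
    rw [Subgroup.mem_centralizer_iff]
    intro z hz
    have hle : Asub F ≤ Subgroup.centralizer {(chevRel certF4 F).xe (r : ℕ) t} := by
      refine (chevRel certF4 F).US_le fun a ha u => ?_
      rw [Subgroup.mem_centralizer_singleton_iff]
      have h3 : auxF4.coef 3 r = 0 := hr 3 (by decide +kernel) (by decide)
      obtain ⟨n1, n2, c1, c2⟩ := comm_top r h3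
      have hneg : chevF4.neg 47 = 0 ∧ chevF4.neg 0 = 47 := by decide +kernel
      rcases ha with ha | ha
      · rw [ha, (chevRel certF4 F).xe_comm 47 r u t (by decide +kernel) r.2 n1 (hneg.1 ▸ n2),
          ChevalleyDatum.commWord, c1, List.map_nil, List.map_nil, List.prod_nil, mul_one]
      · rw [ha, (chevRel certF4 F).xe_comm 0 r u t (by decide +kernel) r.2 n2 (hneg.2 ▸ n1),
          ChevalleyDatum.commWord, c2, List.map_nil, List.map_nil, List.prod_nil, mul_one]
    exact Subgroup.mem_centralizer_singleton_iff.1 (hle hz)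
  exact (Subgroup.mem_centralizer_iff.1 (h hx) y hy).symm

theorem conj_word : wordAct auxF4 [3, 2, 1, 0, 2, 1, 2] 24 = 47 ∧ wordAct auxF4 [3, 2, 1, 0, 2, 1, 2] 23 = 0 := by
  decide +kernel

theorem sub_three : ∀ r : Fin chevF4.nroots, (auxF4.coef 0 r = 0 ∧ auxF4.coef 1 r = 0 ∧ auxF4.coef 2 r = 0) →
    (r : ℕ) = 24 ∨ (r : ℕ) = 23 := by
  decide +kernel

/-- The subgroup of the root subgroups of the fourth simple root and its negative is conjugate into `Asub`. -/
theorem exists_conj_Asub : ∃ m : ↥(chevF4.group F), ∀ x ∈ (chevRel certF4 F).US (subSet chevF4 auxF4 {3}),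
    m * x * m⁻¹ ∈ Asub F := by
  have hword : ∃ m : (chevRel certF4 F).NS, ∀ s : Fin chevF4.nroots,
      ((chevRel certF4 F).nsPerm m s : ℕ) = wordAct auxF4 [3, 2, 1, 0, 2, 1, 2] s := by
    have h3 : 3 < chevF4.rank := by decide +kernel
    refine ⟨(chevRel certF4 F).nS ⟨3, h3⟩ * ((chevRel certF4 F).nS ⟨2, by omega⟩ *
      ((chevRel certF4 F).nS ⟨1, by omega⟩ * ((chevRel certF4 F).nS ⟨0, by omega⟩ *
      ((chevRel certF4 F).nS ⟨2, by omega⟩ * ((chevRel certF4 F).nS ⟨1, by omega⟩ *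
      (chevRel certF4 F).nS ⟨2, by omega⟩))))), fun s => ?_⟩
    simp only [map_mul, Equiv.Perm.mul_apply, (chevRel certF4 F).nsPerm_nS, (chevRel certF4 F).wperm_apply]
    rfl
  obtain ⟨m, hm⟩ := hword
  obtain ⟨a, ha⟩ := (chevRel certF4 F).isMon_nsPerm m
  refine ⟨m, fun x hx => ?_⟩
  have hle : (chevRel certF4 F).US (subSet chevF4 auxF4 {3}) ≤
      (Asub F).comap (MulAut.conj (m : ↥(chevF4.group F))).toMonoidHom := by
    refine (chevRel certF4 F).US_le fun r hr t => ?_
    rw [Subgroup.mem_comap]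
    show (m : ↥(chevF4.group F)) * _ * (m : ↥(chevF4.group F))⁻¹ ∈ Asub F
    rw [(ha r).2.2.2 t]
    refine (chevRel certF4 F).xe_mem_US ?_ _
    show _ = 47 ∨ _ = 0
    rw [hm]
    rcases sub_three r ⟨hr 0 (by decide +kernel) (by decide), hr 1 (by decide +kernel) (by decide),
      hr 2 (by decide +kernel) (by decide)⟩ with h | h <;> rw [h]
    · exact Or.inl conj_word.1
    · exact Or.inr conj_word.2
  exact hle hx

theorem chain_three : chainCounts cartF4 4 24 [3] [2, 1, 0] =
    [[1, 1, 1, 2, 1, 1, 1, 0, 0, 0, 0, 0, 0, 0, 0, 0, 0, 0, 0, 0, 0, 0, 0, 0, 0],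
      [1, 1, 1, 0, 0, 0, 0, 0, 0, 0, 0, 0, 0, 0, 0, 0, 0, 0, 0, 0, 0, 0, 0, 0, 0],
      [1, 1, 0, 0, 0, 0, 0, 0, 0, 0, 0, 0, 0, 0, 0, 0, 0, 0, 0, 0, 0, 0, 0, 0, 0]] := by decide +kernel

theorem chain_one : chainCounts cartF4 4 24 [0, 1, 2] [3] =
    [[1, 1, 0, 0, 0, 0, 0, 0, 0, 0, 0, 0, 0, 0, 0, 0, 0, 0, 0, 0, 0, 0, 0, 0, 0]] := by decide +kernel

theorem fixSum_three [Fintype (chevRel certF4 F).WQ] {n : ℕ} (hn : Nat.card F = n + 1) :
    (chevRel certF4 F).fixSum [3] (Nat.card F) * n ^ 3 =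
      ((n + 1) ^ 2 - 1) * (((n + 1) ^ 4 - 1) * ((n + 1) ^ 6 - 1)) := by
  rw [(chevRel certF4 F).fixSum_chain (Nat.card F) [2, 1, 0] [3] (by decide +kernel) (by decide +kernel),
    cmat_F4, show chainCounts cartF4 chevF4.rank (half chevF4) [3] [2, 1, 0] =
      chainCounts cartF4 4 24 [3] [2, 1, 0] from by decide +kernel, chain_three, hn]
  have e2 : (n + 1) ^ 2 - 1 = n * (n + 2) := by
    rw [show (n + 1) ^ 2 = n * (n + 2) + 1 by ring, Nat.add_sub_cancel]
  have e4 : (n + 1) ^ 4 - 1 = n * (n + 2) * ((n + 1) ^ 2 + 1) := by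
    rw [show (n + 1) ^ 4 = n * (n + 2) * ((n + 1) ^ 2 + 1) + 1 by ring, Nat.add_sub_cancel]
  have e6 : (n + 1) ^ 6 - 1 = n * (n + 2) * ((n + 1) ^ 4 + (n + 1) ^ 2 + 1) := by
    rw [show (n + 1) ^ 6 = n * (n + 2) * ((n + 1) ^ 4 + (n + 1) ^ 2 + 1) + 1 by ring, Nat.add_sub_cancel]
  rw [e2, e4, e6]
  simp [polyVal]
  ring

theorem fixSum_one [Fintype (chevRel certF4 F).WQ] :
    (chevRel certF4 F).fixSum [0, 1, 2] (Nat.card F) = Nat.card F + 1 := by
  rw [(chevRel certF4 F).fixSum_chain (Nat.card F) [3] [0, 1, 2] (by decide +kernel) (by decide +kernel),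
    cmat_F4, show chainCounts cartF4 chevF4.rank (half chevF4) [0, 1, 2] [3] =
      chainCounts cartF4 4 24 [0, 1, 2] [3] from by decide +kernel, chain_one]
  simp [polyVal]
  ring

end CfsgLib.Known.PrimeGraphF4
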