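import Cfsg.Agent.Lib.Known.PrimeGraphF4.SameOrder
import Cfsg.Agent.Lib.Known.PrimeGraphF4.Levi

/-!
# The prime graph of `F₄(q)`, `q` even
-/

set_option autoImplicit false
set_option maxHeartbeats 1600000

namespace CfsgLib.Known.PrimeGraphF4

open Cfsg.Lie (ChevalleyDatum chevF4)
open CfsgLib.Lie.Chev
open Polynomial (cyclotomic)

variable (F : Type*) [Field F] [Fintype F]

theorem he_mem_sub {J : Set ℕ} {i : Fin chevF4.rank} (hi : (i : ℕ) ∈ J) (c : F) :
    (chevRel certF4 F).he (chevF4.simple i) c ∈ (chevRel certF4 F).US (subSet chevF4 auxF4 J) := by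
  have h : ∀ b : F, (chevRel certF4 F).ne (chevF4.simple i) b ∈ (chevRel certF4 F).US (subSet chevF4 auxF4 J) := by
    intro b
    have h1 := (chevRel certF4 F).sroot_mem_sub J hi
    show _ * _ * _ ∈ _
    exact mul_mem (mul_mem ((chevRel certF4 F).xe_mem_US h1 _)
      ((chevRel certF4 F).xe_mem_US (r := (chevRel certF4 F).negF ((chevRel certF4 F).sroot i))
        ((chevRel certF4 F).negF_mem_sub J h1) _)) ((chevRel certF4 F).xe_mem_US h1 _)
  exact mul_mem (h c) (h (-1))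

/-- The orders of elements in the root subgroups of a parabolic subgroup. -/
theorem exists_sub {J : Set ℕ} {S : List ℕ} (hSK : ∀ i < chevF4.rank, i ∈ S ↔ i ∉ J) {i : Fin chevF4.rank}
    (hi : (i : ℕ) ∈ J) {n : ℕ} (hn : Fintype.card F = n + 1) {s : ℕ} (hs : s.Prime) (hs2 : s ≠ 2)
    (hsq : ¬ s ∣ n + 1)
    (hfix : ¬ s ∣ n → ∀ _ : Fintype (chevRel certF4 F).WQ, s ∣ (chevRel certF4 F).fixSum S (Nat.card F)) :
    ∃ z ∈ (chevRel certF4 F).US (subSet chevF4 auxF4 J), orderOf z = s := by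
  classical
  have : Fact s.Prime := ⟨hs⟩
  by_cases hsn : s ∣ n
  · obtain ⟨c, hc⟩ := exists_prime_orderOf_dvd_card' (G := Fˣ) s (by
      rw [Nat.card_units, Nat.card_eq_fintype_card, hn, Nat.add_sub_cancel]; exact hsn)
    refine ⟨(chevRel certF4 F).he (chevF4.simple i) (c : F), he_mem_sub F hi _, orderOf_eq_prime ?_ fun e => ?_⟩
    · have h := map_pow ((chevRel certF4 F).heHom i) c s
      rw [← hc, pow_orderOf_eq_one, map_one, hc] at h
      exact (congrArg Subtype.val h).symm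
    · have h1 := (chevRel certF4 F).isMon_he_simple i c.ne_zero
      rw [e] at h1
      have h2 := congrFun ((chevRel certF4 F).isMon_unique h1 (chevRel certF4 F).isMon_one).2
        ((chevRel certF4 F).sroot i)
      have h3 : ∀ i : Fin chevF4.rank, chevF4.cartan i (chevF4.simple i) = 2 := by decide +kernel
      simp only [show ((chevRel certF4 F).sroot i : ℕ) = chevF4.simple i from rfl, h3] at h2
      have h4 : c ^ (2 : ℤ) = 1 := Units.ext (by rw [Units.val_zpow_eq_zpow_val, h2, Units.val_one])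
      have h5 : orderOf c ∣ 2 := orderOf_dvd_of_pow_eq_one (by exact_mod_cast h4)
      rw [hc] at h5
      exact hs2 ((Nat.prime_dvd_prime_iff_eq hs Nat.prime_two).1 h5)
  · have hfin : Finite ↥(chevF4.group F) := inferInstance
    have := (chevRel certF4 F).rootPerm.finite
    have := Fintype.ofFinite (chevRel certF4 F).WQ
    have h1 : s ∣ Nat.card ((chevRel certF4 F).PJ J) := by
      rw [card_PJ (chevRel certF4 F) hSK]
      exact dvd_mul_of_dvd_right (hfix hsn _) _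
    have hUR : ¬ s ∣ Nat.card ((chevRel certF4 F).UR J) := fun h => hsq (by
      have h2 := h.trans (Subgroup.card_dvd_of_le ((chevRel certF4 F).UR_le_UP J))
      rw [(chevRel certF4 F).card_UP_eq (K := Set.univ) (fun i _ => Set.mem_univ i), Nat.card_eq_fintype_card,
        hn] at h2
      exact hs.dvd_of_dvd_pow h2)
    have hHS : ¬ s ∣ Nat.card (chevRel certF4 F).HS := fun h => hsn (by
      have h2 := card_HS_mul certF4 F cmat_F4 smithF4
      rw [hn, Nat.add_sub_cancel] at h2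
      exact hs.dvd_of_dvd_pow (h2 ▸ dvd_mul_of_dvd_right h _))
    have h3 := dvd_card_sub (chevRel certF4 F) (desc_of_chk (by decide +kernel)) J hs h1 hUR hHS
    obtain ⟨z, hz⟩ := exists_prime_orderOf_dvd_card' (G := ↥((chevRel certF4 F).US (subSet chevF4 auxF4 J))) s h3
    exact ⟨z, z.2, (Subgroup.orderOf_coe z).trans hz⟩

theorem exists_Lsub {n : ℕ} (hn : Fintype.card F = n + 1) {s : ℕ} (hs : s.Prime) (hs2 : s ≠ 2)
    (hsq : ¬ s ∣ n + 1) (he : s ∣ (n + 1) ^ 2 - 1 ∨ s ∣ (n + 1) ^ 4 - 1 ∨ s ∣ (n + 1) ^ 6 - 1) :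
    ∃ z ∈ Lsub F, orderOf z = s := by
  refine exists_sub F (J := {0, 1, 2}) (S := [3]) ?_ (i := ⟨0, by decide +kernel⟩) (by simp) hn hs hs2 hsq ?_
  · intro i hi
    have : i < 4 := lt_of_lt_of_eq hi (by decide +kernel)
    simp only [List.mem_singleton, Set.mem_insert_iff, Set.mem_singleton_iff]
    omega
  · intro hsn _
    have h := fixSum_three F (n := n) (by rw [Nat.card_eq_fintype_card, hn])
    have h2 : s ∣ ((n + 1) ^ 2 - 1) * (((n + 1) ^ 4 - 1) * ((n + 1) ^ 6 - 1)) := ?_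
    · rw [← h] at h2
      exact (hs.dvd_mul.1 h2).resolve_right fun h3 => hsn (hs.dvd_of_dvd_pow h3)
    rcases he with he | he | he
    · exact dvd_mul_of_dvd_left he _
    · exact dvd_mul_of_dvd_right (dvd_mul_of_dvd_left he _) _
    · exact dvd_mul_of_dvd_right (dvd_mul_of_dvd_right he _) _

theorem exists_Asub {n : ℕ} (hn : Fintype.card F = n + 1) {r : ℕ} (hr : r.Prime) (hr2 : r ≠ 2)
    (hrq : ¬ r ∣ n + 1) (he : r ∣ (n + 1) ^ 2 - 1) : ∃ y ∈ Asub F, orderOf y = r := by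
  obtain ⟨z, hz, hzo⟩ := exists_sub F (J := {3}) (S := [0, 1, 2]) (by
      intro i hi
      have : i < 4 := lt_of_lt_of_eq hi (by decide +kernel)
      simp only [List.mem_cons, List.not_mem_nil, or_false, Set.mem_singleton_iff]
      omega) (i := ⟨3, by decide +kernel⟩) (by simp) hn hr hr2 hrq (fun hrn _ => by
      rw [fixSum_one F, Nat.card_eq_fintype_card, hn]
      rw [show (n + 1) ^ 2 - 1 = n * (n + 1 + 1) by
        rw [show (n + 1) ^ 2 = n * (n + 1 + 1) + 1 by ring, Nat.add_sub_cancel]] at he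
      exact (hr.dvd_mul.1 he).resolve_left hrn)
  obtain ⟨m, hm⟩ := exists_conj_Asub F
  exact ⟨m * z * m⁻¹, hm z hz, by rw [← hzo]; exact MulEquiv.orderOf_eq (MulAut.conj m) z⟩

theorem exists_Asub_two [CharP F 2] : ∃ y ∈ Asub F, orderOf y = 2 := by
  obtain ⟨r, hr⟩ : ∃ r : Fin chevF4.nroots, (r : ℕ) = 47 := ⟨⟨47, by decide +kernel⟩, rfl⟩
  refine ⟨(chevRel certF4 F).xe r 1, (chevRel certF4 F).xe_mem_US (Or.inl hr) _, orderOf_eq_prime ?_ ?_⟩
  · rw [sq, (chevRel certF4 F).xe_add', CharTwo.add_self_eq_zero, (chevRel certF4 F).xe_zero]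
  · intro h
    rw [← (chevRel certF4 F).xe_zero (r : ℕ)] at h
    exact one_ne_zero ((chevRel certF4 F).xe_inj_param h)

variable {F}

/-- The orders of `q` modulo the odd primes dividing the order. -/
theorem order_mem {q r : ℕ} (hF : Fintype.card F = q) (hr : r.Prime) (hrq : ¬ r ∣ q)
    (hrG : r ∣ Nat.card ↥(chevF4.group F)) :
    orderOf (q : ZMod r) ∈ ([1, 2, 3, 4, 6, 8, 12] : List ℕ) := by
  have h := card_group certF4 F cmat_F4 smithF4 polyF4 hF
  have h1 : r ∣ q ^ (chevF4.nroots / 2) * (([2, 6, 8, 12] : List ℕ).map fun k => q ^ k - 1).prod :=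
    h ▸ dvd_mul_of_dvd_right hrG _
  have h2 := (hr.dvd_mul.1 h1).resolve_left fun e => hrq (hr.dvd_of_dvd_pow e)
  obtain ⟨x, hx, hrx⟩ := hr.prime.dvd_prod_iff.1 h2
  obtain ⟨d, hd, rfl⟩ := List.mem_map.1 hx
  have hq : 1 ≤ q := hF ▸ Fintype.card_pos
  rw [← ZMod.natCast_eq_zero_iff, Nat.cast_sub (Nat.one_le_pow _ _ hq), Nat.cast_pow, Nat.cast_one, sub_eq_zero]
    at hrx
  have hdvd := orderOf_dvd_of_pow_eq_one hrx
  have hall : ∀ d ∈ ([2, 6, 8, 12] : List ℕ), ∀ e ∈ Nat.divisors d, e ∈ ([1, 2, 3, 4, 6, 8, 12] : List ℕ) := by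
    decide
  refine hall d hd _ (Nat.mem_divisors.2 ⟨hdvd, ?_⟩)
  intro h0
  subst h0
  exact absurd hd (by decide)

theorem dvd_pow_sub_one_of_order {q r d : ℕ} (hq : 1 ≤ q) (h : orderOf (q : ZMod r) ∣ d) : r ∣ q ^ d - 1 := by
  rw [← ZMod.natCast_eq_zero_iff, Nat.cast_sub (Nat.one_le_pow _ _ hq), Nat.cast_pow, Nat.cast_one,
    orderOf_dvd_iff_pow_eq_one.1 h, sub_self]

theorem exists_order_mul {G : Type*} [Group G] {r s : ℕ} (hr : r.Prime) (hs : s.Prime) (hrs : r ≠ s) {x y : G}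
    (hx : orderOf x = r) (hy : orderOf y = s) (h : Commute x y) : ∃ z : G, orderOf z = r * s :=
  ⟨x * y, by rw [h.orderOf_mul_eq_mul_orderOf_of_coprime (by
    rw [hx, hy]; exact (Nat.coprime_primes hr hs).2 hrs), hx, hy]⟩

theorem exists_comm_of_order {G : Type*} [Group G] {r s : ℕ} (hr : r.Prime) (hs : s.Prime) {z : G}
    (hz : orderOf z = r * s) : ∃ x y : G, orderOf x = r ∧ orderOf y = s ∧ Commute x y := by
  refine ⟨z ^ s, z ^ r, ?_, ?_, (Commute.refl z).pow_pow _ _⟩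
  · rw [orderOf_pow' _ hs.ne_zero, hz, Nat.gcd_mul_left_left, Nat.mul_div_cancel _ hs.pos]
  · rw [orderOf_pow' _ hr.ne_zero, hz, Nat.gcd_mul_right_left, Nat.mul_div_cancel_left _ hr.pos]

/-- The pairs of non-adjacent odd primes, by their orders. -/
def Sep (k l : ℕ) : Prop := l = 8 ∨ l = 12 ∨ (l = 6 ∧ (k = 3 ∨ k = 4)) ∨ (l = 4 ∧ k = 3)

/-- An odd prime modulo which `q` has order eight or twelve is not adjacent to two. -/
theorem two_not_adj {q s : ℕ} (hF : Fintype.card F = q) (hq : Even q) (hs : s.Prime)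
    (he : orderOf (q : ZMod s) = 8 ∨ orderOf (q : ZMod s) = 12) :
    ¬ ∃ x : ↥(chevF4.group F), orderOf x = 2 * s := by
  rintro ⟨z, hz⟩
  obtain ⟨x, y, hx, hy, hxy⟩ := exists_comm_of_order Nat.prime_two hs hz
  obtain ⟨K, _, _, ⟨X⟩⟩ := exists_extF4 hF
  have hg : GoodPrime q s (orderOf (q : ZMod s)) := ⟨hs, by rcases he with h | h <;> rw [h] <;> decide, rfl⟩
  have h := X.dvd_of_commute hg he Nat.prime_two hy hx hxy.symm
  have h' := (ZMod.intCast_zmod_eq_zero_iff_dvd _ 2).2 h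
  have hq0 : ((q : ℤ) : ZMod 2) = 0 := by
    rw [Int.cast_natCast, ZMod.natCast_eq_zero_iff]
    exact hq.two_dvd
  rcases he with h8 | h8 <;> rw [h8] at h'
  · rw [CyclicTorus.cyclotomic_eight] at h'
    simp only [Polynomial.eval_add, Polynomial.eval_pow, Polynomial.eval_X, Polynomial.eval_one, Int.cast_add,
      Int.cast_pow, hq0, Int.cast_one] at h'
    exact absurd h' (by decide)
  · rw [cyclo_twelve] at h'
    simp only [Polynomial.eval_add, Polynomial.eval_sub, Polynomial.eval_pow, Polynomial.eval_X, Polynomial.eval_one,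
      Int.cast_add, Int.cast_sub, Int.cast_pow, hq0, Int.cast_one] at h'
    exact absurd h' (by decide)

theorem twelve_three : ∀ w : ZMod 3, w ^ 4 - w ^ 2 + 1 ≠ 0 := by decide

/-- Odd primes: the criterion. -/
theorem odd_criterion {q r s : ℕ} (hF : Fintype.card F = q) (hr : r.Prime) (hs : s.Prime) (hrs : r ≠ s)
    (hr2 : r ≠ 2) (hs2 : s ≠ 2) (hrq : ¬ r ∣ q) (hsq : ¬ s ∣ q)
    (hrG : r ∣ Nat.card ↥(chevF4.group F)) (hsG : s ∣ Nat.card ↥(chevF4.group F)) :
    (¬ ∃ x : ↥(chevF4.group F), orderOf x = r * s) ↔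
      ((orderOf (q : ZMod r) < orderOf (q : ZMod s) ∧ Sep (orderOf (q : ZMod r)) (orderOf (q : ZMod s))) ∨
        (orderOf (q : ZMod s) < orderOf (q : ZMod r) ∧ Sep (orderOf (q : ZMod s)) (orderOf (q : ZMod r)))) := by
  obtain ⟨k, hk⟩ : ∃ k, k = orderOf (q : ZMod r) := ⟨_, rfl⟩
  obtain ⟨l, hl⟩ : ∃ l, l = orderOf (q : ZMod s) := ⟨_, rfl⟩
  have hkm : k ∈ ([1, 2, 3, 4, 6, 8, 12] : List ℕ) := by rw [hk]; exact order_mem hF hr hrq hrG
  have hlm : l ∈ ([1, 2, 3, 4, 6, 8, 12] : List ℕ) := by rw [hl]; exact order_mem hF hs hsq hsG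
  simp only [List.mem_cons, List.not_mem_nil, or_false] at hkm hlm
  have hq1 : 1 < q := hF ▸ Fintype.one_lt_card
  obtain ⟨n, hn⟩ : ∃ n, q = n + 1 := ⟨q - 1, by omega⟩
  obtain ⟨K, _, _, ⟨X⟩⟩ := exists_extF4 hF
  -- the existence of commuting elements in the commuting subgroups
  have hA : ∀ a b : ℕ, a.Prime → b.Prime → a ≠ b → a ≠ 2 → b ≠ 2 → ¬ a ∣ q → ¬ b ∣ q →
      orderOf (q : ZMod a) ∣ 2 → (orderOf (q : ZMod b) ∣ 4 ∨ orderOf (q : ZMod b) ∣ 6) →
      ∃ x : ↥(chevF4.group F), orderOf x = a * b := by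
    intro a b ha hb hab ha2 hb2 haq hbq h2 h46
    obtain ⟨y, hy, hyo⟩ := exists_Asub F (hF.trans hn) ha ha2 (hn ▸ haq)
      (hn ▸ dvd_pow_sub_one_of_order (by omega) h2)
    obtain ⟨z, hz, hzo⟩ := exists_Lsub F (hF.trans hn) hb hb2 (hn ▸ hbq)
      (h46.elim (fun h => Or.inr (Or.inl (hn ▸ dvd_pow_sub_one_of_order (by omega) h)))
        fun h => Or.inr (Or.inr (hn ▸ dvd_pow_sub_one_of_order (by omega) h)))
    exact exists_order_mul ha hb hab hyo hzo (Lsub_Asub_commute F hz hy).symm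
  rw [← hk, ← hl]
  constructor
  · intro hno
    by_contra hsep
    simp only [Sep, not_or, not_and] at hsep
    refine hno ?_
    by_cases hkl : k = l
    · subst hkl
      rcases hkm with h | h | h | h | h | h | h
      · exact hA r s hr hs hrs hr2 hs2 hrq hsq (by rw [← hk, h]; decide) (Or.inl (by rw [← hl, h]; decide))
      · exact hA r s hr hs hrs hr2 hs2 hrq hsq (by rw [← hk, h]) (Or.inl (by rw [← hl, h]; decide))
      all_goals
        have hmem : k ∈ five := by rw [h]; decide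
        obtain ⟨x, y, hx, hy, hxy⟩ := X.exists_commute ⟨hr, hmem, hk.symm⟩ ⟨hs, hmem, hl.symm⟩ hF
        exact exists_order_mul hr hs hrs hx hy hxy
    · by_cases hk2 : k ≤ 2
      · refine hA r s hr hs hrs hr2 hs2 hrq hsq ?_ ?_
        · rw [← hk]
          rcases hkm with h | h | h | h | h | h | h <;> first | (subst h; decide) | (exfalso; omega)
        · rw [← hl]
          rcases hlm with h | h | h | h | h | h | h <;> rw [h] <;> first | decide | (exfalso; omega)
      · by_cases hl2 : l ≤ 2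
        · obtain ⟨x, hx⟩ := hA s r hs hr (Ne.symm hrs) hs2 hr2 hsq hrq (by
            rw [← hl]
            rcases hlm with h | h | h | h | h | h | h <;> first | (subst h; decide) | (exfalso; omega)) (by
            rw [← hk]
            rcases hkm with h | h | h | h | h | h | h <;> rw [h] <;> first | decide | (exfalso; omega))
          exact ⟨x, by rw [hx, mul_comm]⟩
        · exfalso; omega
  · intro hsep
    rintro ⟨z, hz⟩
    obtain ⟨x, y, hx, hy, hxy⟩ := exists_comm_of_order hr hs hz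
    have hbad : ∀ (a b : ℕ) (u v : ↥(chevF4.group F)), a.Prime → b.Prime → orderOf u = a → orderOf v = b →
        Commute u v → ¬ a ∣ q → a ≠ 2 → (orderOf (q : ZMod b) = 8 ∨ orderOf (q : ZMod b) = 12) →
        orderOf (q : ZMod a) < orderOf (q : ZMod b) → orderOf (q : ZMod a) ≠ 0 → False := by
      intro a b u v ha hb hu hv huv haq ha2 he hlt hne
      have : Fact a.Prime := ⟨ha⟩
      have hg : GoodPrime q b (orderOf (q : ZMod b)) := ⟨hb, by rcases he with h | h <;> rw [h] <;> decide, rfl⟩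
      have h := X.dvd_of_commute hg he ha hv hu huv.symm
      have hcase : ¬ a ∣ orderOf (q : ZMod b) := by
        intro hd
        have h12 : a ∣ 24 := hd.trans (by rcases he with h | h <;> rw [h] <;> decide)
        have h3 : a = 3 := by
          rw [show (24 : ℕ) = 2 ^ 3 * 3 from rfl] at h12
          rcases ha.dvd_mul.1 h12 with e | e
          · exact absurd ((Nat.prime_dvd_prime_iff_eq ha Nat.prime_two).1 (ha.dvd_of_dvd_pow e)) ha2
          · exact (Nat.prime_dvd_prime_iff_eq ha Nat.prime_three).1 e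
        subst h3
        rcases he with h8 | h8 <;> rw [h8] at h hd
        · exact absurd hd (by decide)
        · rw [cyclo_twelve] at h
          have h' := (ZMod.intCast_zmod_eq_zero_iff_dvd _ 3).2 h
          simp at h'
          exact twelve_three _ h'
      exact hlt.ne ((primitive_of_dvd hcase h).eq_orderOf).symm
    have hpos : ∀ a : ℕ, a ∈ ([1, 2, 3, 4, 6, 8, 12] : List ℕ) → a ≠ 0 := by decide
    have hk0 : k ≠ 0 := hpos k (by simpa using hkm)
    have hl0 : l ≠ 0 := hpos l (by simpa using hlm)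
    rcases hsep with ⟨hlt, h | h | ⟨h6, h34⟩ | ⟨h4, h3⟩⟩ | ⟨hlt, h | h | ⟨h6, h34⟩ | ⟨h4, h3⟩⟩
    · exact hbad r s x y hr hs hx hy hxy hrq hr2 (Or.inl (hl ▸ h)) (hk ▸ hl ▸ hlt) (hk ▸ hk0)
    · exact hbad r s x y hr hs hx hy hxy hrq hr2 (Or.inr (hl ▸ h)) (hk ▸ hl ▸ hlt) (hk ▸ hk0)
    · exact X.not_commute (k := k) (l := l) ⟨hr, by rcases h34 with h | h <;> rw [h] <;> decide, hk.symm⟩
        ⟨hs, by rw [h6]; decide, hl.symm⟩ (by rcases h34 with h | h <;> rw [h] <;> decide) (by rw [h6]; decide)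
        hlt.ne hx hy hxy
    · exact X.not_commute (k := k) (l := l) ⟨hr, by rw [h3]; decide, hk.symm⟩ ⟨hs, by rw [h4]; decide, hl.symm⟩
        (by rw [h3]; decide) (by rw [h4]; decide) hlt.ne hx hy hxy
    · exact hbad s r y x hs hr hy hx hxy.symm hsq hs2 (Or.inl (hk ▸ h)) (hk ▸ hl ▸ hlt) (hl ▸ hl0)
    · exact hbad s r y x hs hr hy hx hxy.symm hsq hs2 (Or.inr (hk ▸ h)) (hk ▸ hl ▸ hlt) (hl ▸ hl0)
    · exact X.not_commute (k := l) (l := k) ⟨hs, by rcases h34 with h | h <;> rw [h] <;> decide, hl.symm⟩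
        ⟨hr, by rw [h6]; decide, hk.symm⟩ (by rcases h34 with h | h <;> rw [h] <;> decide) (by rw [h6]; decide)
        hlt.ne hy hx hxy.symm
    · exact X.not_commute (k := l) (l := k) ⟨hs, by rw [h3]; decide, hl.symm⟩ ⟨hr, by rw [h4]; decide, hk.symm⟩
        (by rw [h3]; decide) (by rw [h4]; decide) hlt.ne hy hx hxy.symm

/-- The criterion for two and an odd prime. -/
theorem two_criterion {q s : ℕ} (hF : Fintype.card F = q) [CharP F 2] (hq : Even q) (hs : s.Prime) (hs2 : s ≠ 2)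
    (hsq : ¬ s ∣ q) (hsG : s ∣ Nat.card ↥(chevF4.group F)) :
    (¬ ∃ x : ↥(chevF4.group F), orderOf x = 2 * s) ↔ (orderOf (q : ZMod s) = 8 ∨ orderOf (q : ZMod s) = 12) := by
  refine ⟨fun hno => ?_, two_not_adj hF hq hs⟩
  by_contra h
  rw [not_or] at h
  have hq1 : 1 < q := hF ▸ Fintype.one_lt_card
  obtain ⟨n, hn⟩ : ∃ n, q = n + 1 := ⟨q - 1, by omega⟩
  have hm := order_mem hF hs hsq hsG
  simp only [List.mem_cons, List.not_mem_nil, or_false] at hm
  have h46 : orderOf (q : ZMod s) ∣ 4 ∨ orderOf (q : ZMod s) ∣ 6 := by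
    rcases hm with e | e | e | e | e | e | e <;> rw [e] at h ⊢ <;>
      first | decide | exact absurd rfl h.1 | exact absurd rfl h.2
  obtain ⟨y, hy, hyo⟩ := exists_Asub_two F
  obtain ⟨z, hz, hzo⟩ := exists_Lsub F (hF.trans hn) hs hs2 (hn ▸ hsq)
    (h46.elim (fun h => Or.inr (Or.inl (hn ▸ dvd_pow_sub_one_of_order (by omega) h)))
      fun h => Or.inr (Or.inr (hn ▸ dvd_pow_sub_one_of_order (by omega) h)))
  exact hno (exists_order_mul Nat.prime_two hs (Ne.symm hs2) hyo hzo (Lsub_Asub_commute F hz hy).symm)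

end CfsgLib.Known.PrimeGraphF4
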