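import Cfsg.Agent.Lib.Known.PrimeGraphF4.Setting
import Cfsg.Agent.Lib.Known.PrimeGraphF4.Eigen
import Cfsg.Agent.Lib.Known.Homocyclic.Main

/-!
# Commuting semisimple elements of `F₄(q)` of prime orders with `q` of order 3, 4, 6, 8, 12
-/

set_option autoImplicit false
set_option maxHeartbeats 1600000

namespace CfsgLib.Known.PrimeGraphF4

open Cfsg.Lie (chevF4)
open CfsgLib.Lie.Chev
open CfsgLib.Known.CyclicTorus (cvec castV castM wMat)
open CfsgLib.Known.AltTorus (keysF4)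
open Polynomial (cyclotomic aeval)
open scoped Matrix

/-- A prime modulo which `q` has one of the five orders. -/
structure GoodPrime (q r k : ℕ) : Prop where
  prime : r.Prime
  mem : k ∈ five
  ord : orderOf (q : ZMod r) = k

theorem GoodPrime.facts {q r k : ℕ} (h : GoodPrime q r k) :
    5 ≤ r ∧ ¬ r ∣ k ∧ ¬ r ∣ q ∧ ¬ r ∣ 24 ∧ IsPrimitiveRoot (q : ZMod r) k ∧ r ∣ q ^ 24 - 1 ∧
      (k = 8 → 17 ≤ r) := by
  have : Fact r.Prime := ⟨h.prime⟩
  obtain ⟨-, hk1, hk24, -⟩ := five_facts h.mem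
  have hk0 : 0 < k := by omega
  have hne : (q : ZMod r) ≠ 0 := fun e => by
    have := h.ord
    rw [e, orderOf_zero] at this
    omega
  have hd : k ∣ r - 1 := h.ord ▸ ZMod.orderOf_dvd_card_sub_one hne
  have h2 := h.prime.two_le
  have hkr : k ≤ r - 1 := Nat.le_of_dvd (by omega) hd
  have hm : 3 ≤ k := by
    have := h.mem
    simp only [five, List.mem_cons, List.not_mem_nil, or_false] at this
    omega
  have h4 : r ≠ 4 := fun e => by have := h.prime; rw [e] at this; norm_num at this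
  have h5 : 5 ≤ r := by omega
  have h24 : ¬ r ∣ 24 := fun e => by
    have := Nat.le_of_dvd (by norm_num) e
    interval_cases r <;> first | (have := h.prime; norm_num at this; done) | norm_num at e
  refine ⟨h5, fun e => h24 (e.trans hk24), fun e => hne ((ZMod.natCast_eq_zero_iff _ _).2 e), h24,
    h.ord ▸ IsPrimitiveRoot.orderOf _, ?_, fun e8 => ?_⟩
  · have hq : 1 ≤ q := Nat.pos_of_ne_zero fun e => hne (by rw [e, Nat.cast_zero])
    rw [← ZMod.natCast_eq_zero_iff, Nat.cast_sub (Nat.one_le_pow _ _ hq), Nat.cast_pow, Nat.cast_one,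
      orderOf_dvd_iff_pow_eq_one.1 (h.ord ▸ hk24), sub_self]
  · subst e8
    have : r ≠ 9 := fun e => by have := h.prime; rw [e] at this; norm_num at this
    omega

theorem kM_key {K : Type} [Field K] (n : (chevRel certF4 K).NS) :
    kM (AltTorus.key (chevRel certF4 K) ((chevRel certF4 K).nsPerm n⁻¹)) = Wn K n := by
  rw [kM_eq, AltTorus.keyMat_key]

theorem key_mem' {K : Type} [Field K] (n : (chevRel certF4 K).NS) :
    AltTorus.key (chevRel certF4 K) ((chevRel certF4 K).nsPerm n) ∈ keysF4 :=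
  AltTorus.key_mem (chevRel certF4 K) AltTorus.chkKeysF4 n

namespace Ext

variable {F : Type*} [Field F] [Fintype F] {q : ℕ} {K : Type} [Field K] [Fintype K] (X : Ext F q K)
include X

/-- The eigenvector of an element of prime order moved into the torus. -/
theorem exists_vec {p : ℕ} [Fact p.Prime] (hpN : p ∣ q ^ 24 - 1) {Y : ↥(chevF4.group K)}
    {n : (chevRel certF4 K).NS} (hn : ∀ h : ↥(HK K), Y⁻¹ * h * Y ∈ X.J.range ↔
      castM (ZMod (q ^ 24 - 1)) (Wn K n) *ᵥ X.E.co h = (q : ZMod (q ^ 24 - 1)) • X.E.co h ∧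
        Commute ((n : ↥(chevF4.group K))⁻¹ * (X.φ Y * Y⁻¹)) (h : ↥(chevF4.group K)))
    {x : ↥(chevF4.group F)} (hx : x ^ p = 1) (hY : Y * X.J x * Y⁻¹ ∈ HK K) :
    ∃ v, castM (ZMod p) (Wn K n) *ᵥ v = (q : ZMod p) • v ∧
      X.E.co ⟨_, hY⟩ = tor q p hpN v ∧ (x ≠ 1 → v ≠ 0) ∧
      Commute ((n : ↥(chevF4.group K))⁻¹ * (X.φ Y * Y⁻¹)) (Y * X.J x * Y⁻¹) := by
  have hp : p.Prime := Fact.out
  obtain ⟨he, hc⟩ := (hn ⟨_, hY⟩).1 ⟨x, by group⟩
  obtain ⟨v, hv⟩ := X.exists_tor hp.pos hpN (h := ⟨_, hY⟩) (Subtype.ext (by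
    rw [SubgroupClass.coe_pow, conj_pow, ← map_pow, hx, map_one, mul_one, mul_inv_cancel, Subgroup.coe_one]))
  rw [hv, X.tor_eigen hp.pos hpN] at he
  refine ⟨v, he, hv, fun hx1 hv0 => hx1 (X.J_inj ?_), hc⟩
  rw [hv0, X.tor_zero, X.E.co_eq_zero, Subtype.ext_iff, Subgroup.coe_one, mul_inv_eq_one, mul_eq_left] at hv
  rw [map_one]
  exact hv

/-- An eigenvector gives a power of a cyclotomic factor. -/
theorem exists_mult {p k : ℕ} [Fact p.Prime] (hp : GoodPrime q p k) (n : (chevRel certF4 K).NS) :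
    ∃ b : ℕ, cyclotomic k ℤ ^ b ∣ (Wn K n).charpoly ∧ b * k.totient ≤ 4 ∧
      Nat.card {v : Fin chevF4.rank → ZMod p // castM (ZMod p) (Wn K n) *ᵥ v = (q : ZMod p) • v} = p ^ b := by
  obtain ⟨h5, hk, -, -, hz, hN, -⟩ := hp.facts
  obtain ⟨ho, hW⟩ := X.pow_orderOf_Wn n
  exact Homocyclic.exists_card_eigen (Wn K n) ho hW (X.not_dvd_orderOf hp.prime h5 hN n⁻¹) hk hz

theorem mult_pos {p : ℕ} [Fact p.Prime] {n : (chevRel certF4 K).NS} {b : ℕ}
    (hb : Nat.card {v : Fin chevF4.rank → ZMod p // castM (ZMod p) (Wn K n) *ᵥ v = (q : ZMod p) • v} = p ^ b)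
    {v : Fin chevF4.rank → ZMod p} (hv : castM (ZMod p) (Wn K n) *ᵥ v = (q : ZMod p) • v) (hv0 : v ≠ 0) :
    1 ≤ b := by
  by_contra h
  rw [Nat.eq_zero_of_not_pos h, pow_zero, Nat.card_eq_one_iff_unique] at hb
  have := hb.1
  exact hv0 (congrArg Subtype.val (Subsingleton.elim (⟨v, hv⟩ : {w : Fin chevF4.rank → ZMod p //
    castM (ZMod p) (Wn K n) *ᵥ w = (q : ZMod p) • w}) ⟨0, by rw [Matrix.mulVec_zero, smul_zero]⟩))

theorem exists_conj_one {p : ℕ} [Fact p.Prime] (hp5 : 5 ≤ p) (hpN : p ∣ q ^ 24 - 1)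
    {x : ↥(chevF4.group F)} (hx : x ^ p = 1) : ∃ Y, Y * X.J x * Y⁻¹ ∈ HK K := by
  obtain ⟨c, -, hc⟩ := X.conj_into_HS (p := p) hp5 hpN (Γ := ⊤) (P := Subgroup.zpowers (X.J x)) le_top le_top
    (by
      refine fun g => ⟨1, ?_⟩
      obtain ⟨z, hz⟩ := Subgroup.mem_zpowers_iff.1 g.2
      refine Subtype.ext ?_
      rw [pow_one, SubgroupClass.coe_pow, ← hz, ← zpow_natCast, ← zpow_mul, mul_comm, zpow_mul, zpow_natCast,
        ← map_pow, hx, map_one, one_zpow, Subgroup.coe_one])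
  exact ⟨c, hc _ (Subgroup.mem_zpowers _)⟩

/-- A prime dividing the order of an element commuting with an element of order `s` divides `Φ_k(q)` for `k`
equal to eight or twelve. -/
theorem dvd_of_commute {s k r : ℕ} (hs : GoodPrime q s k) (hk : k = 8 ∨ k = 12) (hr : r.Prime)
    {x y : ↥(chevF4.group F)} (hx : orderOf x = s) (hy : orderOf y = r) (hxy : Commute x y) :
    (r : ℤ) ∣ (cyclotomic k ℤ).eval (q : ℤ) := by
  have : Fact s.Prime := ⟨hs.prime⟩
  obtain ⟨hs5, hsk, -, -, hz, hsN, h17⟩ := hs.facts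
  have hxs : x ^ s = 1 := hx ▸ pow_orderOf_eq_one x
  have hx1 : x ≠ 1 := fun h => by rw [h, orderOf_one] at hx; exact hs.prime.one_lt.ne hx
  obtain ⟨Y, hY⟩ := X.exists_conj_one hs5 hsN hxs
  obtain ⟨n, hn⟩ := X.exists_weyl Y
  obtain ⟨v, hv, hco, hv0, -⟩ := X.exists_vec hsN hn hxs hY
  obtain ⟨b, hb, hbl, hbc⟩ := X.exists_mult hs n
  have hb1 := X.mult_pos hbc hv (hv0 hx1)
  have h4 : k.totient = 4 := by rcases hk with rfl | rfl <;> decide +kernel
  have hb4 : b * k.totient = 4 := by rw [h4] at hbl ⊢; omega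
  obtain ⟨ho, hW⟩ := X.pow_orderOf_Wn n
  have hPhi : aeval (Wn K n) (cyclotomic k ℤ) = 0 := aeval_cyclo_eq_zero ho hW hb4 hb
  have hyH : Y * X.J y * Y⁻¹ ∈ HK K := by
    refine X.mem_HS_of_regular (p := s) hs5 hsN (fun _ : Unit => (⟨_, hY⟩ : ↥(HK K))) (fun _ => v)
      (fun _ => hco) (fun t => ⟨(), fun h0 => ?_⟩) fun _ => ?_
    · refine root_ne_zero_four (n := n⁻¹) hk hPhi (r := s) ?_ (c := (q : ZMod s)) ?_ (hv0 hx1) t ?_
      · rcases hk with rfl | rfl
        · exact Or.inl (h17 rfl)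
        · exact Or.inr ⟨rfl, hs5⟩
      · rw [kM_key]; exact hv
      · exact (congrArg (fun a : Fin 4 → ℤ => castV (ZMod s) a ⬝ᵥ v) (cvecF4_eq (t : ℕ))).symm.trans h0
    · show (Y * X.J y * Y⁻¹) * (Y * X.J x * Y⁻¹) = (Y * X.J x * Y⁻¹) * (Y * X.J y * Y⁻¹)
      rw [conj_mul, conj_mul, ← map_mul, ← map_mul, hxy.eq]
  obtain ⟨he, -⟩ := (hn ⟨_, hyH⟩).1 ⟨y, by group⟩
  by_contra hnd
  obtain ⟨u, w, huw⟩ := ((Nat.prime_iff_prime_int.1 hr).coprime_iff_not_dvd.2 hnd)
  rw [← Int.cast_natCast (R := ZMod (q ^ 24 - 1))] at he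
  have h1 := CyclicTorus.eval_smul_eq_zero he hPhi
  have h2 : ((r : ℤ) : ZMod (q ^ 24 - 1)) • X.E.co ⟨_, hyH⟩ = 0 := by
    rw [Int.cast_natCast, ← X.E.co_pow, X.E.co_eq_zero]
    refine Subtype.ext ?_
    rw [SubgroupClass.coe_pow, conj_pow, ← map_pow, ← hy, pow_orderOf_eq_one, map_one, mul_one, mul_inv_cancel,
      Subgroup.coe_one]
  have h3 : X.E.co ⟨_, hyH⟩ = 0 := by
    have h4 := congrArg (fun z : ℤ => (z : ZMod (q ^ 24 - 1)) • X.E.co ⟨_, hyH⟩) huw
    simp only [Int.cast_add, Int.cast_mul, Int.cast_one, add_smul, mul_smul, one_smul] at h4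
    rw [h2, h1, smul_zero, smul_zero, add_zero] at h4
    exact h4.symm
  rw [X.E.co_eq_zero, Subtype.ext_iff, Subgroup.coe_one, mul_inv_eq_one, mul_eq_left] at h3
  have h5 : y = 1 := X.J_inj (h3.trans (map_one _).symm)
  rw [h5, orderOf_one] at hy
  exact hr.one_lt.ne hy

/-- No two elements of orders `r`, `s` commute when `q` has two different orders among three, four, six. -/
theorem not_commute {r k s l : ℕ} (hr : GoodPrime q r k) (hs : GoodPrime q s l) (hk : k.totient = 2)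
    (hl : l.totient = 2) (hkl : k ≠ l) {x y : ↥(chevF4.group F)} (hx : orderOf x = r) (hy : orderOf y = s)
    (hxy : Commute x y) : False := by
  have : Fact r.Prime := ⟨hr.prime⟩
  have : Fact s.Prime := ⟨hs.prime⟩
  obtain ⟨hr5, hrk, -, -, hzr, hrN, -⟩ := hr.facts
  obtain ⟨hs5, hsl, -, -, hzs, hsN, -⟩ := hs.facts
  have hxr : x ^ r = 1 := hx ▸ pow_orderOf_eq_one x
  have hys : y ^ s = 1 := hy ▸ pow_orderOf_eq_one y
  have hx1 : x ≠ 1 := fun h => by rw [h, orderOf_one] at hx; exact hr.prime.one_lt.ne hx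
  have hy1 : y ≠ 1 := fun h => by rw [h, orderOf_one] at hy; exact hs.prime.one_lt.ne hy
  obtain ⟨Y0, hY0⟩ := X.exists_conj_one hr5 hrN hxr
  obtain ⟨hcz, hce⟩ : ∃ h : ↥(chevF4.group K), h = Y0 * X.J x * Y0⁻¹ := ⟨_, rfl⟩
  rw [← hce] at hY0
  have hyC : Y0 * X.J y * Y0⁻¹ ∈ Subgroup.centralizer {hcz} := by
    rw [Subgroup.mem_centralizer_singleton_iff, hce, conj_mul, conj_mul, ← map_mul, ← map_mul, hxy.eq]
  obtain ⟨c, hcC, hc⟩ := X.conj_into_HS (p := s) hs5 hsN (Γ := Subgroup.centralizer {hcz})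
    (P := Subgroup.zpowers (Y0 * X.J y * Y0⁻¹))
    (fun h hh => Subgroup.mem_centralizer_singleton_iff.2 ((chevRel certF4 K).HS_isMulCommutative hh hY0))
    (by rw [Subgroup.zpowers_le]; exact hyC)
    (by
      refine fun g => ⟨1, ?_⟩
      obtain ⟨z, hz⟩ := Subgroup.mem_zpowers_iff.1 g.2
      refine Subtype.ext ?_
      rw [pow_one, SubgroupClass.coe_pow, ← hz, ← zpow_natCast, ← zpow_mul, mul_comm, zpow_mul, zpow_natCast,
        conj_pow, ← map_pow, hys, map_one, mul_one, mul_inv_cancel, one_zpow, Subgroup.coe_one])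
  obtain ⟨Y, hYdef⟩ : ∃ Y, Y = c * Y0 := ⟨_, rfl⟩
  have hYx : Y * X.J x * Y⁻¹ ∈ HK K := by
    rw [Subgroup.mem_centralizer_singleton_iff] at hcC
    have e : Y * X.J x * Y⁻¹ = hcz := by
      rw [hYdef, show c * Y0 * X.J x * (c * Y0)⁻¹ = c * (Y0 * X.J x * Y0⁻¹) * c⁻¹ by group, ← hce, hcC,
        mul_inv_cancel_right]
    rw [e]; exact hY0
  have hYy : Y * X.J y * Y⁻¹ ∈ HK K := by
    have h := hc _ (Subgroup.mem_zpowers _)
    rw [hYdef, show c * Y0 * X.J y * (c * Y0)⁻¹ = c * (Y0 * X.J y * Y0⁻¹) * c⁻¹ by group]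
    exact h
  obtain ⟨n, hn⟩ := X.exists_weyl Y
  obtain ⟨v, hv, -, hv0, -⟩ := X.exists_vec hrN hn hxr hYx
  obtain ⟨w, hw, -, hw0, -⟩ := X.exists_vec hsN hn hys hYy
  obtain ⟨b, hb, -, hbc⟩ := X.exists_mult hr n
  obtain ⟨b', hb', -, hbc'⟩ := X.exists_mult hs n
  have hdk : cyclotomic k ℤ ∣ (Wn K n).charpoly :=
    (dvd_pow_self _ (Nat.one_le_iff_ne_zero.1 (X.mult_pos hbc hv (hv0 hx1)))).trans hb
  have hdl : cyclotomic l ℤ ∣ (Wn K n).charpoly :=
    (dvd_pow_self _ (Nat.one_le_iff_ne_zero.1 (X.mult_pos hbc' hw (hw0 hy1)))).trans hb'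
  have hk1 := (five_facts hr.mem).2.1
  have hl1 := (five_facts hs.mem).2.1
  have hrel : IsRelPrime (cyclotomic k ℤ) (cyclotomic l ℤ) := by
    rw [(Polynomial.cyclotomic.irreducible (by omega)).isRelPrime_iff_not_dvd]
    intro hd
    refine hkl (Polynomial.cyclotomic_injective (R := ℤ) ?_)
    exact (Polynomial.eq_of_monic_of_dvd_of_natDegree_le (Polynomial.cyclotomic.monic k ℤ)
      (Polynomial.cyclotomic.monic l ℤ) hd (by rw [Polynomial.natDegree_cyclotomic, Polynomial.natDegree_cyclotomic,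
        hk, hl])).symm
  have hprod : (Wn K n).charpoly = cyclotomic k ℤ * cyclotomic l ℤ :=
    Polynomial.eq_of_monic_of_dvd_of_natDegree_le ((Polynomial.cyclotomic.monic k ℤ).mul
      (Polynomial.cyclotomic.monic l ℤ)) (Wn K n).charpoly_monic (hrel.mul_dvd hdk hdl) (by
        rw [Polynomial.natDegree_mul (Polynomial.cyclotomic_ne_zero k ℤ) (Polynomial.cyclotomic_ne_zero l ℤ),
          Polynomial.natDegree_cyclotomic, Polynomial.natDegree_cyclotomic, hk, hl,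
          Matrix.charpoly_natDegree_eq_dim, Fintype.card_fin]
        exact le_rfl)
  have hCH := Matrix.aeval_self_charpoly (Wn K n)
  rw [hprod, map_mul, ← kM_key] at hCH
  have hcase : aeval (Wn K n) (cyclotomic k ℤ) = 0 ∨ aeval (Wn K n) (cyclotomic l ℤ) = 0 := by
    obtain ⟨p1, p2, p3⟩ := pair_cases (key_mem' n⁻¹)
    have hCH4 : @aeval ℤ (Matrix (Fin 4) (Fin 4) ℤ) _ _ _
        (kM (AltTorus.key (chevRel certF4 K) ((chevRel certF4 K).nsPerm n⁻¹))) (cyclotomic k ℤ) *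
        aeval (kM (AltTorus.key (chevRel certF4 K) ((chevRel certF4 K).nsPerm n⁻¹))) (cyclotomic l ℤ) = 0 := hCH
    rw [← kM_key]
    show @aeval ℤ (Matrix (Fin 4) (Fin 4) ℤ) _ _ _
        (kM (AltTorus.key (chevRel certF4 K) ((chevRel certF4 K).nsPerm n⁻¹))) (cyclotomic k ℤ) = 0 ∨
      @aeval ℤ (Matrix (Fin 4) (Fin 4) ℤ) _ _ _
        (kM (AltTorus.key (chevRel certF4 K) ((chevRel certF4 K).nsPerm n⁻¹))) (cyclotomic l ℤ) = 0
    clear hCH
    rename' hCH4 => hCH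
    rw [aeval_two hr.mem hk, aeval_two hs.mem hl] at hCH ⊢
    have hcomm : ∀ a a' : ℤ, ∀ M : Matrix (Fin 4) (Fin 4) ℤ, P2 a M * P2 a' M = P2 a' M * P2 a M := by
      intro a a' M
      have h : ∀ c : ℤ, Commute M (P2 c M) := fun c =>
        ((((Commute.refl M).mul_right (Commute.refl M)).smul_right _).add_right
          ((Commute.refl M).smul_right _)).add_right ((Commute.one_right M).smul_right _)
      exact ((((h a').mul_left (h a')).smul_left _).add_left ((h a').smul_left _)).add_left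
        ((Commute.one_left _).smul_left _) |>.eq
    have := hr.mem
    have := hs.mem
    simp only [five, List.mem_cons, List.not_mem_nil, or_false] at *
    rcases ‹k = 3 ∨ k = 4 ∨ k = 6 ∨ k = 8 ∨ k = 12› with rfl | rfl | rfl | rfl | rfl <;>
      first
      | exact absurd hk (by decide +kernel)
      | (rcases ‹l = 3 ∨ l = 4 ∨ l = 6 ∨ l = 8 ∨ l = 12› with rfl | rfl | rfl | rfl | rfl <;>
          first
          | exact absurd hl (by decide +kernel)
          | exact absurd rfl hkl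
          | (simp only [midB, show (4 : ℕ) ≠ 3 by norm_num, show (6 : ℕ) ≠ 3 by norm_num,
              show (6 : ℕ) ≠ 4 by norm_num, if_true, if_false] at hCH ⊢
             first
             | exact p1 hCH
             | exact p2 hCH
             | exact p3 hCH
             | exact (p1 (hcomm _ _ _ ▸ hCH)).symm
             | exact (p2 (hcomm _ _ _ ▸ hCH)).symm
             | exact (p3 (hcomm _ _ _ ▸ hCH)).symm))
  rcases hcase with h0 | h0
  · rw [← Int.cast_natCast (R := ZMod s)] at hw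
    have h1 := CyclicTorus.eval_smul_eq_zero hw h0
    have h2 : (s : ℤ) ∣ (cyclotomic k ℤ).eval (q : ℤ) :=
      (ZMod.intCast_zmod_eq_zero_iff_dvd _ _).1 ((smul_eq_zero.1 h1).resolve_right (hw0 hy1))
    have hsk : ¬ s ∣ k := fun h => hs.facts.2.2.2.1 (h.trans (five_facts hr.mem).2.2.1)
    exact hkl ((primitive_of_dvd hsk h2).unique hzs)
  · rw [← Int.cast_natCast (R := ZMod r)] at hv
    have h1 := CyclicTorus.eval_smul_eq_zero hv h0
    have h2 : (r : ℤ) ∣ (cyclotomic l ℤ).eval (q : ℤ) :=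
      (ZMod.intCast_zmod_eq_zero_iff_dvd _ _).1 ((smul_eq_zero.1 h1).resolve_right (hv0 hx1))
    have hrl : ¬ r ∣ l := fun h => hr.facts.2.2.2.1 (h.trans (five_facts hs.mem).2.2.1)
    exact hkl (hzr.unique (primitive_of_dvd hrl h2))

end Ext

end CfsgLib.Known.PrimeGraphF4
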