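import Cfsg.Agent.Lib.Known.PrimeGraphF4.Pairs

/-!
# Commuting elements for two primes of the same order
-/

set_option autoImplicit false
set_option maxHeartbeats 1600000

namespace CfsgLib.Known.PrimeGraphF4

open Cfsg.Lie (chevF4)
open CfsgLib.Lie.Chev
open CfsgLib.Known.CyclicTorus (cvec castV castM wMat)
open Polynomial (cyclotomic aeval)
open scoped Matrix

theorem deg_count {k : ℕ} (hk : k ∈ five) :
    (([2, 6, 8, 12] : List ℕ).filter fun e => k ∣ e).length * k.totient = 4 := by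
  revert k
  decide +kernel

/-- In a commutative `p`-group of exponent dividing `p ^ v` the number of elements killed by `p` is large. -/
theorem card_le_card_torsion_pow {R : Type*} [CommGroup R] [Finite R] (p : ℕ) :
    ∀ i : ℕ, Nat.card (powMonoidHom (p ^ i) : R →* R).ker ≤ Nat.card (powMonoidHom p : R →* R).ker ^ i := by
  intro i
  induction i with
  | zero =>
    rw [pow_zero, pow_zero, Finite.card_le_one_iff_subsingleton]
    exact ⟨fun a b => Subtype.ext (by
      have ha := a.2; have hb := b.2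
      simp only [MonoidHom.mem_ker, powMonoidHom_apply, pow_one] at ha hb
      rw [ha, hb])⟩
  | succ i ih =>
    obtain ⟨f, hf⟩ : ∃ f : (powMonoidHom (p ^ (i + 1)) : R →* R).ker →* (powMonoidHom (p ^ i) : R →* R).ker,
        ∀ x, (f x : R) = (x : R) ^ p :=
      ⟨((powMonoidHom p : R →* R).comp (Subgroup.subtype _)).codRestrict _ fun x => by
        have hx := x.2
        simp only [MonoidHom.mem_ker, powMonoidHom_apply, MonoidHom.coe_comp, Subgroup.coe_subtype,
          Function.comp_apply] at hx ⊢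
        rw [← pow_mul, ← pow_succ', hx], fun _ => rfl⟩
    have h1 := Subgroup.card_eq_card_quotient_mul_card_subgroup f.ker
    have h2 : Nat.card (_ ⧸ f.ker) ≤ Nat.card (powMonoidHom (p ^ i) : R →* R).ker := by
      rw [Nat.card_congr (QuotientGroup.quotientKerEquivRange f).toEquiv]
      exact Nat.card_le_card_of_injective _ Subtype.val_injective
    have h3 : Nat.card f.ker ≤ Nat.card (powMonoidHom p : R →* R).ker := by
      refine Nat.card_le_card_of_injective (fun x => ⟨(x.1 : R), ?_⟩) fun a b e => ?_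
      · have h := congrArg (Subtype.val : _ → R) (MonoidHom.mem_ker.1 x.2)
        rw [hf] at h
        simpa using h
      · have e' : ((a.1 : R)) = (b.1 : R) := Subtype.mk.inj e
        exact Subtype.ext (Subtype.ext e')
    exact h1.trans_le ((Nat.mul_le_mul (h2.trans ih) h3).trans_eq (pow_succ _ _).symm)

namespace Ext

variable {F : Type*} [Field F] [Fintype F] {q : ℕ} {K : Type} [Field K] [Fintype K] (X : Ext F q K)
include X

/-- A Sylow subgroup moved into the torus fills the eigenspace. -/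
theorem exists_full {r k : ℕ} [Fact r.Prime] (hr : GoodPrime q r k) (hq : Fintype.card F = q) :
    ∃ (Y : ↥(chevF4.group K)) (n : (chevRel certF4 K).NS) (b : ℕ),
      (∀ h : ↥(HK K), Y⁻¹ * h * Y ∈ X.J.range ↔
        castM (ZMod (q ^ 24 - 1)) (Wn K n) *ᵥ X.E.co h = (q : ZMod (q ^ 24 - 1)) • X.E.co h ∧
          Commute ((n : ↥(chevF4.group K))⁻¹ * (X.φ Y * Y⁻¹)) (h : ↥(chevF4.group K))) ∧
      b * k.totient = 4 ∧ cyclotomic k ℤ ^ b ∣ (Wn K n).charpoly ∧
      ∀ w : Fin chevF4.rank → ZMod r, castM (ZMod r) (Wn K n) *ᵥ w = (q : ZMod r) • w →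
        ∃ (x : ↥(chevF4.group F)) (h : ↥(HK K)), x ^ r = 1 ∧ (h : ↥(chevF4.group K)) = Y * X.J x * Y⁻¹ ∧
          X.E.co h = tor q r hr.facts.2.2.2.2.2.1 w := by
  classical
  obtain ⟨hr5, hrk, hrq, hr24, hz, hrN, -⟩ := hr.facts
  have hp : r.Prime := hr.prime
  obtain ⟨-, hk1, hk24, -⟩ := five_facts hr.mem
  have hq1 := X.one_lt
  obtain ⟨a, ha⟩ : ∃ a, a = (([2, 6, 8, 12] : List ℕ).filter fun e => k ∣ e).length := ⟨_, rfl⟩
  obtain ⟨v, hv⟩ : ∃ v, v = padicValNat r (q ^ k - 1) := ⟨_, rfl⟩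
  have hd : k = orderOf (q : ZMod r) := hr.ord.symm
  have hdeg : ∀ e ∈ ([2, 6, 8, 12] : List ℕ), ¬ r ∣ e := fun e he h => by
    refine hr24 (h.trans ?_)
    simp only [List.mem_cons, List.not_mem_nil, or_false] at he
    rcases he with rfl | rfl | rfl | rfl <;> decide
  have hdd : ∀ i : Fin chevF4.rank, ([1, 1, 1, 1] : List ℕ).getD i 0 ∣ ([2, 6, 8, 12] : List ℕ).prod := by
    decide +kernel
  have hW : ¬ r ∣ ([2, 6, 8, 12] : List ℕ).prod := fun h => by
    rw [show ([2, 6, 8, 12] : List ℕ).prod = 2 * (6 * (8 * 12)) from rfl] at h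
    rcases hp.dvd_mul.1 h with h | h
    · exact hdeg 2 (by decide) h
    rcases hp.dvd_mul.1 h with h | h
    · exact hdeg 6 (by decide) h
    rcases hp.dvd_mul.1 h with h | h
    · exact hdeg 8 (by decide) h
    · exact hdeg 12 (by decide) h
  have hval : padicValNat r (Nat.card ↥(chevF4.group F)) = v * a := by
    rw [Homocyclic.padicValNat_card_group certF4 cmat_F4 smithF4 polyF4 hdd hW F hq hrq,
      List.map_congr_left fun e he => Homocyclic.padicValNat_pow_sub_one hq1 hd (by omega) (hdeg e he),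
      Homocyclic.sum_map_ite_eq, hv, ha]
  have hv1 : 1 ≤ v := by
    rw [hv]
    refine one_le_padicValNat_of_dvd (Nat.sub_ne_zero_of_lt (Nat.one_lt_pow (by omega) hq1)) ?_
    rw [← ZMod.natCast_eq_zero_iff, Nat.cast_sub (Nat.one_le_pow _ _ (by omega)), Nat.cast_pow, Nat.cast_one, hd,
      pow_orderOf_eq_one, sub_self]
  have hvN : padicValNat r (q ^ 24 - 1) = v := by
    rw [Homocyclic.padicValNat_pow_sub_one hq1 hd (by omega) hr24, if_pos hk24, hv]
  obtain ⟨S⟩ : Nonempty (Sylow r ↥(chevF4.group F)) := inferInstance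
  obtain ⟨Y, -, hY⟩ := X.conj_into_HS (p := r) hr5 hrN (Γ := ⊤) (P := (S : Subgroup _).map X.J) le_top le_top
    (S.isPGroup'.map X.J)
  have hY' : ∀ x : ↥(S : Subgroup ↥(chevF4.group F)), Y * X.J x * Y⁻¹ ∈ HK K := fun x =>
    hY _ (Subgroup.mem_map_of_mem _ x.2)
  have hcomm : ∀ x y : ↥(S : Subgroup ↥(chevF4.group F)), x * y = y * x := fun x y => by
    refine Subtype.ext (X.J_inj ?_)
    have h := (chevRel certF4 K).HS_isMulCommutative (hY' x) (hY' y)
    rw [conj_mul, conj_mul, mul_left_inj, mul_right_inj, ← map_mul, ← map_mul] at h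
    exact h
  let _ : CommGroup ↥(S : Subgroup ↥(chevF4.group F)) :=
    { (inferInstance : Group ↥(S : Subgroup ↥(chevF4.group F))) with mul_comm := hcomm }
  have hexp : ∀ x : ↥(S : Subgroup ↥(chevF4.group F)), x ^ r ^ v = 1 := by
    intro x
    obtain ⟨j, hj⟩ := (Nat.dvd_prime_pow hp).1 (show orderOf x ∣ r ^ _ from
      orderOf_dvd_of_pow_eq_one (S.isPGroup' x).choose_spec)
    have hh : (⟨_, hY' x⟩ : ↥(HK K)) ^ (q ^ 24 - 1) = 1 := by
      rw [← X.E.co_eq_zero, X.E.co_pow, ZMod.natCast_self, zero_smul]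
    have hx : x ^ (q ^ 24 - 1) = 1 := by
      refine Subtype.ext (X.J_inj ?_)
      rw [Subtype.ext_iff, SubgroupClass.coe_pow, conj_pow, Subgroup.coe_one, mul_inv_eq_one, mul_eq_left,
        ← map_pow] at hh
      rw [Subgroup.coe_one, map_one, SubgroupClass.coe_pow]
      exact hh
    have h1 := orderOf_dvd_of_pow_eq_one hx
    rw [hj.2] at h1
    refine orderOf_dvd_iff_pow_eq_one.1 (hj.2 ▸ pow_dvd_pow r ?_)
    rw [← hvN]
    exact (padicValNat_dvd_iff_le X.N_pos.ne').1 h1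
  obtain ⟨T, hT⟩ : ∃ T, T = (powMonoidHom r : ↥(S : Subgroup ↥(chevF4.group F)) →* _).ker := ⟨_, rfl⟩
  have hTcard : r ^ a ≤ Nat.card T := by
    have h := card_le_card_torsion_pow (R := ↥(S : Subgroup ↥(chevF4.group F))) r v
    have htop : Nat.card (powMonoidHom (r ^ v) : ↥(S : Subgroup ↥(chevF4.group F)) →* _).ker =
        Nat.card ↥(S : Subgroup ↥(chevF4.group F)) := by
      rw [show (powMonoidHom (r ^ v) : ↥(S : Subgroup ↥(chevF4.group F)) →* _).ker = ⊤ from
        eq_top_iff.2 fun x _ => by simpa using hexp x, Subgroup.card_top]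
    rw [htop, S.card_eq_multiplicity, Nat.factorization_def _ hp, hval, mul_comm v, pow_mul, ← hT] at h
    exact (Nat.pow_le_pow_iff_left (by omega)).1 h
  obtain ⟨n, hn⟩ := X.exists_weyl Y
  obtain ⟨b, hb, hbl, hbc⟩ := X.exists_mult hr n
  have hxT : ∀ x : T, ((x.1 : ↥(chevF4.group F))) ^ r = 1 := fun x => by
    have h := x.2
    simp only [hT, MonoidHom.mem_ker, powMonoidHom_apply] at h
    rw [← SubgroupClass.coe_pow, h, Subgroup.coe_one]
  choose vec hvec hvco hvne _hvc using fun x : T => X.exists_vec (p := r) hrN hn (hxT x) (hY' x.1)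
  obtain ⟨Φ, hΦ⟩ : ∃ Φ : T → {w : Fin chevF4.rank → ZMod r //
      castM (ZMod r) (Wn K n) *ᵥ w = (q : ZMod r) • w}, ∀ x, (Φ x).1 = vec x :=
    ⟨fun x => ⟨vec x, hvec x⟩, fun _ => rfl⟩
  have hΦinj : Function.Injective Φ := fun x y e => by
    have e' := congrArg Subtype.val e
    rw [hΦ, hΦ] at e'
    have h2 := congrArg Subtype.val (X.E.bij.1 ((hvco x).trans ((congrArg (tor q r hrN) e').trans (hvco y).symm)))
    exact Subtype.ext (Subtype.ext (X.J_inj (mul_left_cancel (mul_right_cancel h2))))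
  have hba : b * k.totient = 4 := by
    have h1 := hTcard.trans ((Nat.card_le_card_of_injective Φ hΦinj).trans_eq hbc)
    have h2 : a ≤ b := (Nat.pow_le_pow_iff_right hp.one_lt).1 h1
    have h3 := deg_count hr.mem
    rw [← ha] at h3
    have h4 : chevF4.rank = 4 := by decide +kernel
    have := Nat.mul_le_mul_right k.totient h2
    omega
  have hsurj : Function.Surjective Φ := by
    refine ((Nat.bijective_iff_injective_and_card Φ).2 ⟨hΦinj, le_antisymm
      (Nat.card_le_card_of_injective Φ hΦinj) ?_⟩).2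
    rw [hbc]
    refine le_trans (le_of_eq ?_) hTcard
    have h3 := deg_count hr.mem
    rw [← ha] at h3
    have hpos : 0 < k.totient := Nat.totient_pos.2 (by omega)
    rw [Nat.eq_of_mul_eq_mul_right hpos (hba.trans h3.symm)]
  refine ⟨Y, n, b, hn, hba, hb, fun w hw => ?_⟩
  obtain ⟨x, hx⟩ := hsurj ⟨w, hw⟩
  refine ⟨x.1, ⟨_, hY' x.1⟩, hxT x, rfl, ?_⟩
  rw [hvco x, ← hΦ, hx]

/-- Two primes with the same order of `q` are the orders of commuting elements. -/
theorem exists_commute {r s k : ℕ} (hr : GoodPrime q r k) (hs : GoodPrime q s k) (hq : Fintype.card F = q) :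
    ∃ x y : ↥(chevF4.group F), orderOf x = r ∧ orderOf y = s ∧ Commute x y := by
  have : Fact r.Prime := ⟨hr.prime⟩
  have : Fact s.Prime := ⟨hs.prime⟩
  obtain ⟨hr5, hrk, -, -, hzr, hrN, h17⟩ := hr.facts
  obtain ⟨hs5, hsk, -, -, hzs, hsN, -⟩ := hs.facts
  obtain ⟨Y, n, b, hn, hb4, hb, hfull⟩ := X.exists_full hr hq
  obtain ⟨ho, hW⟩ := X.pow_orderOf_Wn n
  have hPhi : aeval (Wn K n) (cyclotomic k ℤ) = 0 := aeval_cyclo_eq_zero ho hW hb4 hb
  obtain ⟨w0, hw00, hw0⟩ : ∃ w : Fin chevF4.rank → ZMod r, w ≠ 0 ∧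
      castM (ZMod r) (Wn K n) *ᵥ w = (q : ZMod r) • w := exists_eigvec hb4 hb (dvd_of_primitive hrk hzr)
  obtain ⟨u, hu0, hu⟩ : ∃ w : Fin chevF4.rank → ZMod s, w ≠ 0 ∧
      castM (ZMod s) (Wn K n) *ᵥ w = (q : ZMod s) • w := exists_eigvec hb4 hb (dvd_of_primitive hsk hzs)
  have hreg : ∀ t : Fin chevF4.nroots, ∃ w : {w : Fin chevF4.rank → ZMod r //
      castM (ZMod r) (Wn K n) *ᵥ w = (q : ZMod r) • w},
      castV (ZMod r) (cvec chevF4 auxF4 t) ⬝ᵥ w.1 ≠ 0 := by
    intro t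
    rcases (five_facts hr.mem).2.2.2 with h2 | h4
    · have h0 : aeval (kM (AltTorus.key (chevRel certF4 K) ((chevRel certF4 K).nsPerm n⁻¹))) (cyclotomic k ℤ) = 0 := by
        rw [kM_key]; exact hPhi
      obtain ⟨v, hv, hv1⟩ := root_ne_zero_two (key_mem' n⁻¹) hr.mem h2 h0 (r := r) (q := q) hr5
        (dvd_of_primitive hrk hzr) (s := (t : ℕ)) t.2
      refine ⟨⟨v, by rw [← kM_key]; exact hv⟩, fun h => hv1 ?_⟩
      exact (congrArg (fun a : Fin 4 → ℤ => castV (ZMod r) a ⬝ᵥ v) (cvecF4_eq (t : ℕ))).symm.trans h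
    · have hk8 : k = 8 ∨ k = 12 := by
        have := hr.mem
        simp only [five, List.mem_cons, List.not_mem_nil, or_false] at this
        rcases this with rfl | rfl | rfl | rfl | rfl
        · exact absurd h4 (by decide +kernel)
        · exact absurd h4 (by decide +kernel)
        · exact absurd h4 (by decide +kernel)
        · exact Or.inl rfl
        · exact Or.inr rfl
      refine ⟨⟨w0, hw0⟩, fun h => root_ne_zero_four (n := n⁻¹) hk8 hPhi (r := r) ?_ (c := (q : ZMod r)) ?_ hw00 t ?_⟩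
      · rcases hk8 with rfl | rfl
        · exact Or.inl (h17 rfl)
        · exact Or.inr ⟨rfl, hr5⟩
      · rw [kM_key]; exact hw0
      · exact (congrArg (fun a : Fin 4 → ℤ => castV (ZMod r) a ⬝ᵥ w0) (cvecF4_eq (t : ℕ))).symm.trans h
  choose xof hof hxr hxY hxco using fun w : {w : Fin chevF4.rank → ZMod r //
      castM (ZMod r) (Wn K n) *ᵥ w = (q : ZMod r) • w} => hfull w.1 w.2
  have hc : ∀ w, Commute ((n : ↥(chevF4.group K))⁻¹ * (X.φ Y * Y⁻¹)) (hof w : ↥(chevF4.group K)) := fun w =>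
    ((hn (hof w)).1 ⟨xof w, by rw [hxY w]; group⟩).2
  have hcH : (n : ↥(chevF4.group K))⁻¹ * (X.φ Y * Y⁻¹) ∈ HK K :=
    X.mem_HS_of_regular (p := r) hr5 hrN hof (fun w => w.1) hxco hreg hc
  obtain ⟨hsel, hsco, hss⟩ := X.exists_co_tor (p := s) hsN u
  obtain ⟨y, hy⟩ : Y⁻¹ * hsel * Y ∈ X.J.range := by
    refine (hn hsel).2 ⟨?_, ?_⟩
    · rw [hsco, X.tor_eigen hs.prime.pos hsN]
      exact hu
    · exact (chevRel certF4 K).HS_isMulCommutative hcH hsel.2
  obtain ⟨x, hx⟩ : ∃ x, x = xof ⟨w0, hw0⟩ := ⟨_, rfl⟩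
  refine ⟨x, y, orderOf_eq_prime (hx ▸ hxr _) ?_, orderOf_eq_prime ?_ ?_, ?_⟩
  · intro e
    apply hw00
    apply X.tor_injective hr.prime.pos hrN
    rw [X.tor_zero, ← hxco ⟨w0, hw0⟩, X.E.co_eq_zero]
    refine Subtype.ext ?_
    rw [hxY, ← hx, e, map_one, mul_one, mul_inv_cancel, Subgroup.coe_one]
  · apply X.J_inj
    rw [map_pow, hy, map_one, show Y⁻¹ * (hsel : ↥(chevF4.group K)) * Y = Y⁻¹ * hsel * (Y⁻¹)⁻¹ by rw [inv_inv],
      conj_pow, ← SubgroupClass.coe_pow, hss, Subgroup.coe_one, mul_one, mul_inv_cancel]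
  · intro e
    rw [e, map_one, eq_comm, mul_eq_one_iff_eq_inv, mul_eq_left, ← Subgroup.coe_one (HK K), Subtype.val_inj,
      ← X.E.co_eq_zero, hsco, ← X.tor_zero hsN] at hy
    exact hu0 (X.tor_injective hs.prime.pos hsN hy)
  · refine X.J_inj ?_
    have e : X.J x = Y⁻¹ * (hof ⟨w0, hw0⟩ : ↥(chevF4.group K)) * Y := by rw [hxY, ← hx]; group
    rw [map_mul, map_mul, hy, e]
    have h := (chevRel certF4 K).HS_isMulCommutative (hof ⟨w0, hw0⟩).2 hsel.2
    generalize (hof ⟨w0, hw0⟩ : ↥(chevF4.group K)) = A at h ⊢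
    generalize (hsel : ↥(chevF4.group K)) = B at h ⊢
    calc Y⁻¹ * A * Y * (Y⁻¹ * B * Y) = Y⁻¹ * (A * B) * Y := by group
      _ = Y⁻¹ * (B * A) * Y := by rw [h]
      _ = Y⁻¹ * B * Y * (Y⁻¹ * A * Y) := by group

end Ext

end CfsgLib.Known.PrimeGraphF4
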