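import Cfsg.Agent.Lib.Known.PrimeGraphF4.Coords
import Cfsg.Agent.Lib.Known.PrimeGraphF4.Centraliser
import Cfsg.Agent.Lib.Known.AltTorus.F4

/-!
# Elements of `F₄(q)` inside the split torus over the extension of degree 24
-/

set_option autoImplicit false
set_option maxHeartbeats 1600000

namespace CfsgLib.Known.PrimeGraphF4

open Cfsg.Lie (chevF4)
open CfsgLib.Lie.Chev
open CfsgLib.Known.CyclicTorus (cvec castV castM wMat)
open scoped Matrix

/-- The group over the big field, its Frobenius map and coordinates on its torus. -/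
structure Ext (F : Type*) [Field F] [Fintype F] (q : ℕ) (K : Type) [Field K] [Fintype K] where
  card : Fintype.card K = q ^ 24
  one_lt : 1 < q
  φ : ↥(chevF4.group K) →* ↥(chevF4.group K)
  J : ↥(chevF4.group F) →* ↥(chevF4.group K)
  J_inj : Function.Injective J
  fix : ∀ g, φ g = g ↔ g ∈ J.range
  E : Coord K q (q ^ 24 - 1) φ
  map_HS : ∀ h ∈ HK K, φ h ∈ HK K

theorem exists_extF4 {F : Type*} [Field F] [Fintype F] {q : ℕ} (hq : Fintype.card F = q) :
    ∃ (K : Type) (_ : Field K) (_ : Fintype K), Nonempty (Ext F q K) := by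
  classical
  have hq1 : 1 < q := hq ▸ Fintype.one_lt_card
  obtain ⟨K, _, _, ι, hK⟩ := AltTorus.exists_ext F 24
  rw [hq] at hK
  obtain ⟨p, hc⟩ := CharP.exists F
  have := hc
  obtain ⟨pa, hp, hqp⟩ := FiniteField.card F p
  have : Fact p.Prime := ⟨hp⟩
  have : CharP K p := charP_of_injective_ringHom ι.injective p
  obtain ⟨σ, hσ⟩ : ∃ σ : K ≃+* K, ∀ b, σ b = b ^ q :=
    ⟨RingEquiv.ofBijective _ (Finite.injective_iff_bijective.1 (RingHom.injective (iterateFrobenius K p pa))),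
      fun b => by rw [RingEquiv.ofBijective_apply, iterateFrobenius_def, ← hq, hqp]⟩
  have hσι : ∀ c, σ (ι c) = ι c := fun c => by rw [hσ, ← map_pow, ← hq, FiniteField.pow_card]
  have hj : ∀ a : K, σ a = a ↔ a ∈ ι.range := by
    refine fun a => ⟨fun ha => ?_, fun ⟨c, hc⟩ => hc ▸ hσι c⟩
    let : Algebra F K := ι.toAlgebra
    rcases eq_or_ne a 0 with rfl | ha0
    · exact zero_mem _
    · obtain ⟨c, hc⟩ := PSLTori.exists_algebraMap_eq (F := F) a (mul_right_cancel₀ ha0 (by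
        rw [hq, ← pow_succ, Nat.sub_add_cancel hq1.le, ← hσ, ha, one_mul]))
      exact ⟨c, hc⟩
  have hd : ∀ i : Fin chevF4.rank, ([1, 1, 1, 1] : List ℕ).getD i 0 = 1 := by decide +kernel
  have hker : ∀ c : Fin chevF4.rank → Kˣ, (chevRel certF4 K).torusHom c = 1 → c = 1 := fun c hc =>
    ChevFixed.torusHom_injective_of_smith certF4 cmat_F4 smithF4 (fun i => by rw [hd i, Nat.gcd_one_right]) c hc
  obtain ⟨E⟩ := exists_coord (q := q) hK rfl σ hσ
  refine ⟨K, inferInstance, inferInstance, ⟨⟨hK, hq1, _, ChevFixed.groupMap chevF4 ι,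
    ChevFixed.groupMap_injective ι, fun g => ⟨fun hg => ?_, ?_⟩, E, fun h hh => ?_⟩⟩⟩
  · exact ChevFixed.eq_range_of_fixed certF4 σ ι hj hker hg
  · rintro ⟨x, rfl⟩
    exact Subtype.ext (Units.ext (Matrix.ext fun a b => hσι _))
  · obtain ⟨c, hc⟩ := (chevRel certF4 K).torusHom_surjective ⟨h, hh⟩
    have e : h = ((chevRel certF4 K).torusHom c : ↥(chevF4.group K)) := by rw [hc]
    rw [e]
    show fieldAut chevF4 σ _ ∈ _
    rw [ChevFixed.fieldAut_torusHom certF4 σ c]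
    exact SetLike.coe_mem _

variable {F : Type*} [Field F] [Fintype F] {q : ℕ} {K : Type} [Field K] [Fintype K]

/-- The matrix of a Weyl group element, as used in the coordinates. -/
noncomputable abbrev Wn (K : Type) [Field K] (n : (chevRel certF4 K).NS) : Matrix (Fin chevF4.rank) (Fin chevF4.rank) ℤ :=
  wMat (chevRel certF4 K) ((chevRel certF4 K).nsPerm n⁻¹)

/-! ### torsion -/

/-- The embedding of the residues modulo a divisor. -/
noncomputable def emb (q p : ℕ) (hpN : p ∣ q ^ 24 - 1) : ZMod p →+ ZMod (q ^ 24 - 1) :=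
  ZMod.lift p ⟨zmultiplesHom (ZMod (q ^ 24 - 1)) (((q ^ 24 - 1) / p : ℕ) : ZMod (q ^ 24 - 1)), by
    show ((p : ℕ) : ℤ) • (((q ^ 24 - 1) / p : ℕ) : ZMod (q ^ 24 - 1)) = 0
    rw [natCast_zsmul, nsmul_eq_mul, ← Nat.cast_mul, Nat.mul_div_cancel' hpN, ZMod.natCast_self]⟩

/-- Vectors modulo a divisor as vectors modulo `q ^ 24 - 1`. -/
noncomputable def tor (q p : ℕ) (hpN : p ∣ q ^ 24 - 1) (v : Fin chevF4.rank → ZMod p) :
    Fin chevF4.rank → ZMod (q ^ 24 - 1) := fun j => emb q p hpN (v j)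

namespace Ext

variable (X : Ext F q K)
include X

theorem N_pos : 0 < q ^ 24 - 1 := Nat.sub_pos_of_lt (Nat.one_lt_pow (by norm_num) X.one_lt)

theorem dvd_card {p : ℕ} (h : p ∣ q ^ 24 - 1) : p ∣ Fintype.card K - 1 := by rw [X.card]; exact h

theorem not_dvd_index {p : ℕ} (hp : p.Prime) (hp5 : 5 ≤ p) (hpN : p ∣ q ^ 24 - 1) :
    ¬ p ∣ (HK K).index :=
  AltTorus.not_dvd_index_top certF4 K cmat_F4 smithF4 (by decide +kernel) polyF4 rfl hp (X.dvd_card hpN)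
    fun k hk h => by
      simp only [List.mem_cons, List.not_mem_nil, or_false] at hk
      have h1 := Nat.le_of_dvd (by omega) h
      rcases hk with rfl | rfl | rfl | rfl <;> interval_cases p <;> first | (norm_num at hp; done) | norm_num at h

/-- A subgroup of prime power order is conjugate into the torus, inside any subgroup containing the torus. -/
theorem conj_into_HS {p : ℕ} [Fact p.Prime] (hp5 : 5 ≤ p) (hpN : p ∣ q ^ 24 - 1)
    {Γ P : Subgroup ↥(chevF4.group K)} (hΓ : HK K ≤ Γ) (hP : P ≤ Γ) (hPp : IsPGroup p ↥P) :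
    ∃ c ∈ Γ, ∀ x ∈ P, c * x * c⁻¹ ∈ HK K := by
  have hfin : Finite ↥(chevF4.group K) := inferInstance
  obtain ⟨H', hH'⟩ : ∃ H', H' = (HK K).subgroupOf Γ := ⟨_, rfl⟩
  have hidx : ¬ p ∣ Nat.card (↥Γ ⧸ H') := by
    rw [hH', ← Subgroup.index_eq_card]
    exact fun h => X.not_dvd_index Fact.out hp5 hpN (h.trans (Subgroup.relIndex_dvd_index_of_le hΓ))
  have hP' : IsPGroup p ↥(P.subgroupOf Γ) := hPp.of_equiv (Subgroup.subgroupOfEquivOfLe hP).symm
  obtain ⟨a, ha⟩ := hP'.nonempty_fixed_point_of_prime_not_dvd_card (α := ↥Γ ⧸ H') hidx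
  obtain ⟨c, rfl⟩ := QuotientGroup.mk_surjective a
  refine ⟨(c⁻¹ : ↥Γ), SetLike.coe_mem _, fun x hx => ?_⟩
  have h : ((⟨x, hP hx⟩ * c : ↥Γ) : ↥Γ ⧸ H') = (c : ↥Γ ⧸ H') :=
    ha ⟨⟨x, hP hx⟩, Subgroup.mem_subgroupOf.2 hx⟩
  rw [eq_comm, QuotientGroup.eq, hH', Subgroup.mem_subgroupOf] at h
  simpa [mul_assoc] using h

/-- One monomial element induces the Frobenius map on everything moved into the torus by `Y`. -/
theorem exists_weyl (Y : ↥(chevF4.group K)) : ∃ n : (chevRel certF4 K).NS, ∀ h : ↥(HK K),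
    Y⁻¹ * h * Y ∈ X.J.range ↔
      castM (ZMod (q ^ 24 - 1)) (Wn K n) *ᵥ X.E.co h = (q : ZMod (q ^ 24 - 1)) • X.E.co h ∧
        Commute ((n : ↥(chevF4.group K))⁻¹ * (X.φ Y * Y⁻¹)) (h : ↥(chevF4.group K)) := by
  obtain ⟨g, hg⟩ : ∃ g, g = X.φ Y * Y⁻¹ := ⟨_, rfl⟩
  obtain ⟨b, hb, n, u, hu, e⟩ := (chevRel certF4 K).exists_bnu g
  refine ⟨n, fun h => ?_⟩
  rw [← X.fix, map_mul, map_mul, map_inv, ← hg]
  have e1 : (X.φ Y)⁻¹ * X.φ h * X.φ Y = Y⁻¹ * h * Y ↔ g * h * g⁻¹ = X.φ h := by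
    rw [hg]
    generalize X.φ Y = A
    generalize X.φ (h : ↥(chevF4.group K)) = B
    constructor
    · intro e
      have : B = A * (Y⁻¹ * h * Y) * A⁻¹ := by rw [← e]; group
      rw [this]; group
    · intro e
      rw [← e]; group
  rw [e1, ← X.E.twist]
  constructor
  · intro e2
    have h1 := AltTorus.conj_eq_of_bnu (chevRel certF4 K) hb hu e h.2 (e2 ▸ X.map_HS _ h.2)
    refine ⟨h1.trans e2, ?_⟩
    generalize (n : ↥(chevF4.group K)) = m at h1
    show m⁻¹ * g * h = h * (m⁻¹ * g)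
    calc m⁻¹ * g * h = m⁻¹ * (g * h * g⁻¹) * g := by group
      _ = h * (m⁻¹ * g) := by rw [← h1]; group
  · rintro ⟨e2, e3⟩
    rw [← e2]
    generalize (n : ↥(chevF4.group K)) = m at e3
    have e4 : m⁻¹ * g * h = h * (m⁻¹ * g) := e3
    calc g * h * g⁻¹ = m * (m⁻¹ * g * h) * g⁻¹ := by group
      _ = m * h * m⁻¹ := by rw [e4]; group

theorem not_dvd_orderOf {p : ℕ} (hp : p.Prime) (hp5 : 5 ≤ p) (hpN : p ∣ q ^ 24 - 1)
    (n : (chevRel certF4 K).NS) : ¬ p ∣ orderOf ((chevRel certF4 K).nsPerm n) := by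
  intro h
  refine X.not_dvd_index hp hp5 hpN (h.trans ?_)
  have h1 : orderOf ((chevRel certF4 K).nsPerm n) ∣ Nat.card (chevRel certF4 K).WQ := by
    rw [← (chevRel certF4 K).qact_qmk]
    exact (orderOf_map_dvd _ _).trans (orderOf_dvd_natCard _)
  refine h1.trans ?_
  rw [← Subgroup.relIndex_mul_index (chevRel certF4 K).HS_le_NS]
  exact dvd_mul_right _ _

theorem pow_orderOf_Wn (n : (chevRel certF4 K).NS) :
    0 < orderOf ((chevRel certF4 K).nsPerm n⁻¹) ∧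
      Wn K n ^ orderOf ((chevRel certF4 K).nsPerm n⁻¹) = 1 :=
  ⟨orderOf_pos _, by rw [← CyclicTorus.wMat_pow (chevRel certF4 K) ((chevRel certF4 K).isLin_nsPerm _),
    pow_orderOf_eq_one, CyclicTorus.wMat_one]⟩

theorem emb_intCast {p : ℕ} (hpN : p ∣ q ^ 24 - 1) (z : ℤ) :
    emb q p hpN (z : ZMod p) = (z : ZMod (q ^ 24 - 1)) * (((q ^ 24 - 1) / p : ℕ) : ZMod (q ^ 24 - 1)) := by
  rw [emb, ZMod.lift_coe, zmultiplesHom_apply, zsmul_eq_mul]

theorem emb_injective {p : ℕ} (hp : 0 < p) (hpN : p ∣ q ^ 24 - 1) : Function.Injective (emb q p hpN) := by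
  refine (injective_iff_map_eq_zero _).2 fun x hx => ?_
  obtain ⟨z, rfl⟩ := ZMod.intCast_surjective x
  rw [X.emb_intCast, ← Int.cast_natCast, ← Int.cast_mul, ZMod.intCast_zmod_eq_zero_iff_dvd] at hx
  obtain ⟨e, he⟩ := hpN
  rw [he, Nat.mul_div_cancel_left _ hp, Nat.cast_mul] at hx
  rw [ZMod.intCast_zmod_eq_zero_iff_dvd]
  have he0 : e ≠ 0 := fun h => by have := X.N_pos; rw [h, mul_zero] at he; omega
  exact (mul_dvd_mul_iff_right (by exact_mod_cast he0 : (e : ℤ) ≠ 0)).1 hx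

theorem emb_mul {p : ℕ} (hpN : p ∣ q ^ 24 - 1) (z : ℤ) (x : ZMod p) :
    emb q p hpN ((z : ZMod p) * x) = (z : ZMod (q ^ 24 - 1)) * emb q p hpN x := by
  rw [← zsmul_eq_mul, map_zsmul, zsmul_eq_mul]

theorem dot_tor {p : ℕ} (hpN : p ∣ q ^ 24 - 1) (α : Fin chevF4.rank → ℤ) (v : Fin chevF4.rank → ZMod p) :
    castV (ZMod (q ^ 24 - 1)) α ⬝ᵥ tor q p hpN v = emb q p hpN (castV (ZMod p) α ⬝ᵥ v) := by
  simp only [dotProduct, castV, tor, map_sum, X.emb_mul]

theorem mulVec_tor {p : ℕ} (hpN : p ∣ q ^ 24 - 1) (M : Matrix (Fin chevF4.rank) (Fin chevF4.rank) ℤ)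
    (v : Fin chevF4.rank → ZMod p) :
    castM (ZMod (q ^ 24 - 1)) M *ᵥ tor q p hpN v = tor q p hpN (castM (ZMod p) M *ᵥ v) :=
  funext fun i => X.dot_tor hpN (M i) v

theorem tor_eigen {p : ℕ} (hp : 0 < p) (hpN : p ∣ q ^ 24 - 1) (M : Matrix (Fin chevF4.rank) (Fin chevF4.rank) ℤ)
    (v : Fin chevF4.rank → ZMod p) :
    castM (ZMod (q ^ 24 - 1)) M *ᵥ tor q p hpN v = (q : ZMod (q ^ 24 - 1)) • tor q p hpN v ↔
      castM (ZMod p) M *ᵥ v = (q : ZMod p) • v := by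
  rw [X.mulVec_tor]
  have e : (q : ZMod (q ^ 24 - 1)) • tor q p hpN v = tor q p hpN ((q : ZMod p) • v) := funext fun i => by
    simp only [tor, Pi.smul_apply, smul_eq_mul]
    rw [← Int.cast_natCast (R := ZMod p), X.emb_mul, Int.cast_natCast]
  rw [e]
  exact ⟨fun h => funext fun i => X.emb_injective hp hpN (congrFun h i), fun h => by rw [h]⟩

theorem tor_injective {p : ℕ} (hp : 0 < p) (hpN : p ∣ q ^ 24 - 1) : Function.Injective (tor q p hpN) :=
  fun _ _ h => funext fun i => X.emb_injective hp hpN (congrFun h i)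

theorem tor_zero {p : ℕ} (hpN : p ∣ q ^ 24 - 1) : tor q p hpN 0 = 0 := funext fun _ => map_zero _

theorem exists_tor {p : ℕ} (hp : 0 < p) (hpN : p ∣ q ^ 24 - 1) {h : ↥(HK K)} (hh : h ^ p = 1) :
    ∃ v, X.E.co h = tor q p hpN v := by
  have : NeZero (q ^ 24 - 1) := ⟨X.N_pos.ne'⟩
  have hc := X.E.co_pow h p
  rw [hh, X.E.co_one] at hc
  choose b hb using fun j => CyclicTorus.exists_eq_natCast_mul hp (Nat.mul_div_cancel' hpN).symm
    (x := X.E.co h j) (congrFun hc j).symm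
  refine ⟨fun j => ((b j : ℤ) : ZMod p), funext fun j => ?_⟩
  rw [hb j, tor, X.emb_intCast, Nat.cast_mul, Int.cast_natCast, mul_comm]

theorem exists_co_tor {p : ℕ} (hpN : p ∣ q ^ 24 - 1) (v : Fin chevF4.rank → ZMod p) :
    ∃ h : ↥(HK K), X.E.co h = tor q p hpN v ∧ h ^ p = 1 := by
  obtain ⟨h, hh⟩ := X.E.bij.2 (tor q p hpN v)
  refine ⟨h, hh, X.E.co_eq_zero.1 ?_⟩
  rw [X.E.co_pow, hh]
  funext j
  simp only [tor, Pi.smul_apply, smul_eq_mul, Pi.zero_apply]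
  rw [← Int.cast_natCast (R := ZMod (q ^ 24 - 1)), ← X.emb_mul, Int.cast_natCast, ZMod.natCast_self, zero_mul,
    map_zero]

/-! ### regular families -/

/-- The centraliser of a family of elements of prime order with eigenvectors orthogonal to no root is the
torus. -/
theorem mem_HS_of_regular {p : ℕ} [Fact p.Prime] (hp5 : 5 ≤ p) (hpN : p ∣ q ^ 24 - 1)
    {ι : Type*} [Finite ι] (h : ι → ↥(HK K)) (v : ι → Fin chevF4.rank → ZMod p)
    (hv : ∀ i, X.E.co (h i) = tor q p hpN (v i))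
    (hreg : ∀ s : Fin chevF4.nroots, ∃ i, castV (ZMod p) (cvec chevF4 auxF4 s) ⬝ᵥ v i ≠ 0)
    {g : ↥(chevF4.group K)} (hg : ∀ i, Commute g (h i : ↥(chevF4.group K))) : g ∈ HK K := by
  classical
  have hp : p.Prime := Fact.out
  have hmon : ∀ i, ∃ a, (chevRel certF4 K).IsMon (h i : ↥(chevF4.group K)) 1 a := fun i =>
    (chevRel certF4 K).isMon_of_mem_HS (h i).2
  choose a ha using hmon
  refine PrimeGraphF4.mem_HS_of_commute (chevRel certF4 K) (fun i => (h i).2) ha (fun s => ?_) (fun m hm => ?_)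
    (g := g) hg
  · obtain ⟨i, hi⟩ := hreg s
    refine ⟨i, fun e => hi (X.emb_injective hp.pos hpN ?_)⟩
    rw [map_zero, ← X.dot_tor, ← hv]
    exact (X.E.val_one _ _ (ha i) s).1 e
  obtain ⟨ρ, hρ⟩ : ∃ ρ, ρ = (chevRel certF4 K).nsPerm m := ⟨_, rfl⟩
  have hlin : (chevRel certF4 K).IsLin ρ := hρ ▸ (chevRel certF4 K).isLin_nsPerm m
  have hinv : ∀ i (k : ℕ) (s : Fin chevF4.nroots), castV (ZMod p) (cvec chevF4 auxF4 ((ρ ^ k) s : ℕ)) ⬝ᵥ v i =
      castV (ZMod p) (cvec chevF4 auxF4 s) ⬝ᵥ v i := by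
    intro i k
    induction k with
    | zero => intro s; rw [pow_zero, Equiv.Perm.one_apply]
    | succ k ih =>
      intro s
      rw [pow_succ, Equiv.Perm.mul_apply, ih, hρ]
      apply X.emb_injective hp.pos hpN
      rw [← X.dot_tor, ← X.dot_tor, ← hv]
      exact (X.E.val_eq _ _ (ha i) _ _).1 (hm i s)
  obtain ⟨o, ho⟩ : ∃ o, o = orderOf ρ := ⟨_, rfl⟩
  have hpo : ¬ p ∣ o := ho ▸ hρ ▸ X.not_dvd_orderOf hp hp5 hpN m
  obtain ⟨y, hy⟩ : ∃ y : ι → Fin chevF4.rank → ℤ,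
      ∀ i, y i = ∑ k ∈ Finset.range o, wMat (chevRel certF4 K) ρ ^ k *ᵥ fun j => ((v i j).val : ℤ) :=
    ⟨_, fun _ => rfl⟩
  have hWy : ∀ i, wMat (chevRel certF4 K) ρ *ᵥ y i = y i := by
    intro i
    obtain ⟨w, hw⟩ : ∃ w : Fin chevF4.rank → ℤ, w = fun j => ((v i j).val : ℤ) := ⟨_, rfl⟩
    rw [hy, ← hw, Matrix.mulVec_sum]
    simp only [Matrix.mulVec_mulVec, ← pow_succ']
    have h0 := Finset.sum_range_succ' (fun k => wMat (chevRel certF4 K) ρ ^ k *ᵥ w) o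
    rw [Finset.sum_range_succ] at h0
    have ho1 : wMat (chevRel certF4 K) ρ ^ o = 1 := by
      rw [← CyclicTorus.wMat_pow (chevRel certF4 K) hlin, ho, pow_orderOf_eq_one, CyclicTorus.wMat_one]
    rw [ho1, pow_zero] at h0
    exact (add_right_cancel h0).symm
  have hne : ∀ (s : Fin chevF4.nroots) i, castV (ZMod p) (cvec chevF4 auxF4 s) ⬝ᵥ v i ≠ 0 →
      cvec chevF4 auxF4 s ⬝ᵥ y i ≠ 0 := by
    intro s i hsi h0
    have h1 : ((cvec chevF4 auxF4 s ⬝ᵥ y i : ℤ) : ZMod p) = (o : ZMod p) * (castV (ZMod p) (cvec chevF4 auxF4 s) ⬝ᵥ v i) := by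
      rw [hy, dotProduct_sum, Int.cast_sum, Finset.sum_congr rfl fun k _ => ?_, Finset.sum_const, Finset.card_range,
        nsmul_eq_mul]
      rw [← hinv i k s, Matrix.dotProduct_mulVec, ← CyclicTorus.wMat_pow (chevRel certF4 K) hlin,
        CyclicTorus.vecMul_wMat (chevRel certF4 K) (CyclicTorus.isLin_pow (chevRel certF4 K) hlin k)]
      simp [dotProduct, castV]
    rw [h0, Int.cast_zero, eq_comm, mul_eq_zero, ZMod.natCast_eq_zero_iff] at h1
    exact h1.elim hpo hsi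
  have := Fintype.ofFinite ι
  have hcomb : ∀ S : Finset ι, ∃ z : Fin chevF4.rank → ℤ, wMat (chevRel certF4 K) ρ *ᵥ z = z ∧
      ∀ s : Fin chevF4.nroots, (∃ i ∈ S, cvec chevF4 auxF4 s ⬝ᵥ y i ≠ 0) → cvec chevF4 auxF4 s ⬝ᵥ z ≠ 0 := by
    intro S
    induction S using Finset.induction_on with
    | empty => exact ⟨0, Matrix.mulVec_zero _, fun s ⟨i, hi, _⟩ => absurd hi (Finset.notMem_empty i)⟩
    | insert i S hiS ih =>
      obtain ⟨z, hz1, hz2⟩ := ih
      obtain ⟨M, hM⟩ : ∃ M : ℤ, M = 1 + ∑ s : Fin chevF4.nroots, |cvec chevF4 auxF4 s ⬝ᵥ z| := ⟨_, rfl⟩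
      refine ⟨z + M • y i, by rw [Matrix.mulVec_add, Matrix.mulVec_smul, hz1, hWy], fun s hs h0 => ?_⟩
      rw [dotProduct_add, dotProduct_smul, smul_eq_mul] at h0
      have hle : |cvec chevF4 auxF4 s ⬝ᵥ z| < M := by
        have := Finset.single_le_sum (f := fun s : Fin chevF4.nroots => |cvec chevF4 auxF4 s ⬝ᵥ z|)
          (fun t _ => abs_nonneg _) (Finset.mem_univ s)
        rw [hM]
        omega
      have hyi : cvec chevF4 auxF4 s ⬝ᵥ y i = 0 := by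
        by_contra hne'
        have h1 : |cvec chevF4 auxF4 s ⬝ᵥ z| = |M| * |cvec chevF4 auxF4 s ⬝ᵥ y i| := by
          rw [← abs_mul, eq_neg_of_add_eq_zero_left h0, abs_neg]
        have h2 := Int.one_le_abs hne'
        have h3 : |M| * 1 ≤ |M| * |cvec chevF4 auxF4 s ⬝ᵥ y i| :=
          mul_le_mul_of_nonneg_left h2 (abs_nonneg _)
        have h4 := le_abs_self M
        omega
      rw [hyi, mul_zero, add_zero] at h0
      obtain ⟨j, hj, hj'⟩ := hs
      rcases Finset.mem_insert.1 hj with rfl | hj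
      · exact hj' hyi
      · exact hz2 s ⟨j, hj, hj'⟩ h0
  obtain ⟨z, hz1, hz2⟩ := hcomb Finset.univ
  refine CyclicTorus.mem_HS_of_fix_functional (chevRel certF4 K) z (fun s => ?_) m fun s => ?_
  · obtain ⟨i, hi⟩ := hreg s
    exact hz2 s ⟨i, Finset.mem_univ i, hne s i hi⟩
  · rw [← hρ, ← CyclicTorus.vecMul_wMat (chevRel certF4 K) hlin, ← Matrix.dotProduct_mulVec, hz1]

end Ext

end CfsgLib.Known.PrimeGraphF4
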