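import Cfsg.Agent.Lib.Known.AltTorus.F4

/-!
# The Weyl group of `F₄`: cyclotomic annihilators and regularity of their eigenspaces

Statements decided on the table of the images of the simple roots.
-/

set_option autoImplicit false
set_option maxRecDepth 20000
set_option maxHeartbeats 1600000

namespace CfsgLib.Known.PrimeGraphF4

open Cfsg.Lie (chevF4)
open CfsgLib.Lie.Chev
open CfsgLib.Known.AltTorus (keyMat keysF4 det4 det4_eq)
open CfsgLib.Known.CyclicTorus (cvec)
open scoped Matrix

/-- An entry of a matrix given by its rows. -/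
def ent (A : List (List ℤ)) (i j : ℕ) : ℤ := (A.getD i []).getD j 0

/-- The matrix with the given entries. -/
def toM (A : List (List ℤ)) : Matrix (Fin 4) (Fin 4) ℤ := Matrix.of fun i j => ent A i j

/-- A list of rows from entries. -/
def tab (f : ℕ → ℕ → ℤ) : List (List ℤ) :=
  [[f 0 0, f 0 1, f 0 2, f 0 3], [f 1 0, f 1 1, f 1 2, f 1 3], [f 2 0, f 2 1, f 2 2, f 2 3],
    [f 3 0, f 3 1, f 3 2, f 3 3]]

theorem toM_tab (f : ℕ → ℕ → ℤ) : toM (tab f) = Matrix.of fun i j : Fin 4 => f i j := by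
  ext i j
  fin_cases i <;> fin_cases j <;> rfl

/-- A vector from its entries. -/
def toV (v : List ℤ) : Fin 4 → ℤ := fun i => v.getD i 0

/-- A list from entries. -/
def tabV (f : ℕ → ℤ) : List ℤ := [f 0, f 1, f 2, f 3]

theorem toV_tabV (f : ℕ → ℤ) : toV (tabV f) = fun i : Fin 4 => f i := by
  funext i
  fin_cases i <;> rfl

/-- A vector times a matrix. -/
def vmul (v : List ℤ) (A : List (List ℤ)) : List ℤ :=
  tabV fun j => v.getD 0 0 * ent A 0 j + v.getD 1 0 * ent A 1 j + v.getD 2 0 * ent A 2 j + v.getD 3 0 * ent A 3 j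

theorem toV_vmul (v : List ℤ) (A : List (List ℤ)) : toV (vmul v A) = toV v ᵥ* toM A := by
  rw [vmul, toV_tabV]
  funext j
  simp [toM, toV, Matrix.vecMul, dotProduct, Fin.sum_univ_four]

/-- A vector times `a X² + b X + c`. -/
def rowQ (a b c : ℤ) (A : List (List ℤ)) (v : List ℤ) : List ℤ :=
  let w := vmul v A
  let x := vmul w A
  tabV fun j => a * x.getD j 0 + b * w.getD j 0 + c * v.getD j 0

theorem toV_rowQ (a b c : ℤ) (A : List (List ℤ)) (v : List ℤ) :
    toV (rowQ a b c A v) = toV v ᵥ* (a • (toM A * toM A) + b • toM A + c • (1 : Matrix (Fin 4) (Fin 4) ℤ)) := by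
  rw [rowQ, toV_tabV, Matrix.vecMul_add, Matrix.vecMul_add, Matrix.vecMul_smul, Matrix.vecMul_smul,
    Matrix.vecMul_smul, Matrix.vecMul_one, ← Matrix.vecMul_vecMul, ← toV_vmul, ← toV_vmul]
  funext j
  simp [toV]

/-- A vector times `X⁴ + b X² + 1`. -/
def rowR (b : ℤ) (A : List (List ℤ)) (v : List ℤ) : List ℤ :=
  let x := vmul (vmul v A) A
  let y := vmul (vmul x A) A
  tabV fun j => y.getD j 0 + b * x.getD j 0 + v.getD j 0

theorem toV_rowR (b : ℤ) (A : List (List ℤ)) (v : List ℤ) :
    toV (rowR b A v) = toV v ᵥ* (toM A ^ 4 + b • toM A ^ 2 + 1) := by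
  rw [rowR, toV_tabV, Matrix.vecMul_add, Matrix.vecMul_add, Matrix.vecMul_smul, Matrix.vecMul_one,
    show toM A ^ 4 = toM A * toM A * toM A * toM A by simp only [pow_succ, pow_zero, one_mul],
    show toM A ^ 2 = toM A * toM A from sq _, ← Matrix.vecMul_vecMul, ← Matrix.vecMul_vecMul,
    ← Matrix.vecMul_vecMul, ← toV_vmul, ← toV_vmul, ← toV_vmul, ← toV_vmul]
  funext j
  simp [toV]

/-- The zero test for a linear map given on vectors. -/
def kills (f : List ℤ → List ℤ) : Bool :=
  (List.range 4).all fun i => (List.range 4).all fun j =>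
    decide ((f (tabV fun k => if Nat.beq i k then 1 else 0)).getD j 0 = 0)

theorem kills_iff {f : List ℤ → List ℤ} {M : Matrix (Fin 4) (Fin 4) ℤ}
    (h : ∀ v, toV (f v) = toV v ᵥ* M) : kills f = true ↔ M = 0 := by
  have e : ∀ i : Fin 4, toV (tabV fun k => if Nat.beq i k then 1 else 0) = Pi.single i 1 := by
    intro i
    funext j
    fin_cases i <;> fin_cases j <;> rfl
  have e2 : ∀ i j : Fin 4, (f (tabV fun k => if Nat.beq i k then 1 else 0)).getD j 0 = M i j := by
    intro i j
    have := congrFun (h (tabV fun k => if Nat.beq i k then 1 else 0)) j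
    rw [e, Matrix.single_one_vecMul] at this
    exact this
  simp only [kills, List.all_eq_true, List.mem_range, decide_eq_true_eq]
  constructor
  · intro h'
    ext i j
    rw [← e2]
    exact h' i i.2 j j.2
  · intro h' i hi j hj
    rw [e2 ⟨i, hi⟩ ⟨j, hj⟩, h']
    rfl

/-- An integer all of whose prime divisors are two or three. -/
def smooth (z : ℤ) : Bool := decide (z ≠ 0) && decide (z.natAbs ∣ 6 ^ 12)

theorem not_dvd_of_smooth {z : ℤ} (h : smooth z = true) {r : ℕ} (hr : r.Prime) (hr5 : 5 ≤ r) :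
    ¬ (r : ℤ) ∣ z := by
  rw [smooth, Bool.and_eq_true, decide_eq_true_eq, decide_eq_true_eq] at h
  intro hd
  have h1 : r ∣ 6 ^ 12 := (Int.natAbs_dvd_natAbs.2 hd).trans h.2
  have h2 := Nat.le_of_dvd (by norm_num) (hr.dvd_of_dvd_pow h1)
  interval_cases r
  · norm_num at h1
  · exact absurd hr (by norm_num)

/-- The rows of a key. -/
def rowsK (L : List ℕ) : List (List ℤ) := tab fun i j => auxF4.coef j (L.getD i 0)

/-- The coordinates of a root. -/
def rootV (s : ℕ) (j : ℕ) : ℤ := auxF4.coef j s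

/-- A root and its image have a minor prime to all primes above three. -/
def indep2 (A : List (List ℤ)) (s : ℕ) : Bool :=
  let v := [rootV s 0, rootV s 1, rootV s 2, rootV s 3]
  let w := vmul v A
  [(0, 1), (0, 2), (0, 3), (1, 2), (1, 3), (2, 3)].any fun p =>
    smooth (v.getD p.1 0 * w.getD p.2 0 - v.getD p.2 0 * w.getD p.1 0)

/-- A root and its first three images have a determinant prime to all primes above three. -/
def indep4 (A : List (List ℤ)) (s : ℕ) : Bool :=
  let v := [rootV s 0, rootV s 1, rootV s 2, rootV s 3]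
  let w := vmul v A
  let x := vmul w A
  let M := [v, w, x, vmul x A]
  smooth (det4 (ent M))

/-- The checks for one element. -/
def chkW (L : List ℕ) : Bool :=
  let A := rowsK L
  let q3 := rowQ 1 1 1 A
  let q4 := rowQ 1 0 1 A
  let q6 := rowQ 1 (-1) 1 A
  (!kills q3 || (List.range 48).all (indep2 A)) && (!kills q4 || (List.range 48).all (indep2 A)) &&
    (!kills q6 || (List.range 48).all (indep2 A)) &&
    (!kills (rowR (-1) A) || (List.range' 24 24).all (indep4 A)) &&
    (!kills (fun v => q4 (q3 v)) || kills q3 || kills q4) && (!kills (fun v => q6 (q3 v)) || kills q3 || kills q6) &&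
    (!kills (fun v => q6 (q4 v)) || kills q4 || kills q6)

open CfsgLib.Known.AltTorus (tblF4) in
theorem chkW_zero : ((tblF4.take 9).flatten).all chkW = true := by decide +kernel

open CfsgLib.Known.AltTorus (tblF4) in
theorem chkW_one : (((tblF4.drop 9).take 9).flatten).all chkW = true := by decide +kernel

open CfsgLib.Known.AltTorus (tblF4) in
theorem chkW_two : (((tblF4.drop 18).take 9).flatten).all chkW = true := by decide +kernel

open CfsgLib.Known.AltTorus (tblF4) in
theorem chkW_three : ((tblF4.drop 27).flatten).all chkW = true := by decide +kernel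

open CfsgLib.Known.AltTorus (tblF4) in
theorem chkW_ok : keysF4.all chkW = true := by
  have e : keysF4 = (tblF4.take 9).flatten ++ (((tblF4.drop 9).take 9).flatten ++
      (((tblF4.drop 18).take 9).flatten ++ (tblF4.drop 27).flatten)) := by
    rw [← List.flatten_append, ← List.flatten_append, ← List.flatten_append]
    rfl
  rw [e, List.all_append, List.all_append, List.all_append, chkW_zero, chkW_one, chkW_two, chkW_three]
  rfl

/-- The matrix of a key. -/
abbrev kM (L : List ℕ) : Matrix (Fin 4) (Fin 4) ℤ := toM (rowsK L)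

theorem kM_eq (L : List ℕ) : kM L = keyMat chevF4 auxF4 L := by
  show toM (tab _) = _
  rw [toM_tab]
  rfl

theorem cvecF4_eq (s : ℕ) : (cvec chevF4 auxF4 s : Fin 4 → ℤ) = toV (tabV (rootV s)) := by
  rw [toV_tabV]
  rfl

/-- The coordinates of a root of `F₄`. -/
abbrev rv (s : ℕ) : Fin 4 → ℤ := toV (tabV (rootV s))

/-- `X² + b X + 1` at the matrix of a key. -/
abbrev P2 (b : ℤ) (M : Matrix (Fin 4) (Fin 4) ℤ) : Matrix (Fin 4) (Fin 4) ℤ :=
  (1 : ℤ) • (M * M) + b • M + (1 : ℤ) • 1

theorem chk_all {L : List ℕ} (hL : L ∈ keysF4) : chkW L = true := List.all_eq_true.1 chkW_ok L hL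

/-- No element has two of the cyclotomic factors of orders three, four, six unless one of them is its minimal
polynomial. -/
theorem pair_cases {L : List ℕ} (hL : L ∈ keysF4) :
    (P2 1 (kM L) * P2 0 (kM L) = 0 → P2 1 (kM L) = 0 ∨ P2 0 (kM L) = 0) ∧
      (P2 1 (kM L) * P2 (-1) (kM L) = 0 → P2 1 (kM L) = 0 ∨ P2 (-1) (kM L) = 0) ∧
      (P2 0 (kM L) * P2 (-1) (kM L) = 0 → P2 0 (kM L) = 0 ∨ P2 (-1) (kM L) = 0) := by
  have h := chk_all hL
  simp only [chkW, Bool.and_eq_true, Bool.or_eq_true, Bool.not_eq_true'] at h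
  have hk : ∀ b, kills (rowQ 1 b 1 (rowsK L)) = true ↔ P2 b (kM L) = 0 := fun b =>
    kills_iff fun v => toV_rowQ 1 b 1 _ v
  have hk2 : ∀ b b', kills (fun v => rowQ 1 b' 1 (rowsK L) (rowQ 1 b 1 (rowsK L) v)) = true ↔
      P2 b (kM L) * P2 b' (kM L) = 0 := fun b b' =>
    kills_iff fun v => by
      show toV (rowQ 1 b' 1 _ (rowQ 1 b 1 _ v)) = _
      rw [toV_rowQ, toV_rowQ, Matrix.vecMul_vecMul]
  generalize hA : rowsK L = A at h
  refine ⟨fun e => ?_, fun e => ?_, fun e => ?_⟩ <;> rw [← hk, ← hk] <;> rw [← hk2] at e <;>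
    rw [hA] at e ⊢
  · exact ((or_assoc.1 h.1.1.2).resolve_left (by rw [e]; simp))
  · exact ((or_assoc.1 h.1.2).resolve_left (by rw [e]; simp))
  · exact ((or_assoc.1 h.2).resolve_left (by rw [e]; simp))

/-- A root and its image are independent modulo every prime above three. -/
theorem indep_two {L : List ℕ} (hL : L ∈ keysF4) {b : ℤ} (hb : b = 1 ∨ b = 0 ∨ b = -1) (h0 : P2 b (kM L) = 0)
    {s : ℕ} (hs : s < 48) {r : ℕ} (hr : r.Prime) (hr5 : 5 ≤ r) (c : ZMod r)
    (he : ∀ j : Fin 4, ((rv s ᵥ* kM L) j : ZMod r) = c * (rv s j : ZMod r)) : False := by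
  have h := chk_all hL
  simp only [chkW, Bool.and_eq_true, Bool.or_eq_true, Bool.not_eq_true'] at h
  have hk : kills (rowQ 1 b 1 (rowsK L)) = true := (kills_iff fun v => toV_rowQ 1 b 1 _ v).2 h0
  have hi : indep2 (rowsK L) s = true := by
    rcases hb with rfl | rfl | rfl <;> simp only [hk, Bool.true_eq_false, false_or, List.all_eq_true,
      List.mem_range] at h
    · exact h.1.1.1.1.1.1 s hs
    · exact h.1.1.1.1.1.2 s hs
    · exact h.1.1.1.1.2 s hs
  simp only [indep2, List.any_eq_true] at hi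
  obtain ⟨p, hp, hsm⟩ := hi
  refine not_dvd_of_smooth hsm hr hr5 ?_
  simp only [rv, kM, ← toV_vmul] at he
  have key : ∀ i j : Fin 4, (r : ℤ) ∣ [rootV s 0, rootV s 1, rootV s 2, rootV s 3].getD i 0 *
      (vmul (tabV (rootV s)) (rowsK L)).getD j 0 - [rootV s 0, rootV s 1, rootV s 2, rootV s 3].getD j 0 *
      (vmul (tabV (rootV s)) (rowsK L)).getD i 0 := by
    intro i j
    rw [← ZMod.intCast_zmod_eq_zero_iff_dvd]
    have e1 := he i
    have e2 := he j
    simp only [toV, tabV] at e1 e2 ⊢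
    push_cast
    rw [e1, e2]
    ring
  simp only [List.mem_cons, List.not_mem_nil, or_false] at hp
  rcases hp with rfl | rfl | rfl | rfl | rfl | rfl
  · exact key 0 1
  · exact key 0 2
  · exact key 0 3
  · exact key 1 2
  · exact key 1 3
  · exact key 2 3

/-- A positive root and its first three images have a determinant prime to every prime above three. -/
theorem indep_four {L : List ℕ} (hL : L ∈ keysF4) (h0 : kM L ^ 4 + (-1 : ℤ) • kM L ^ 2 + 1 = 0)
    {s : ℕ} (hs : 24 ≤ s) (hs' : s < 48) {r : ℕ} (hr : r.Prime) (hr5 : 5 ≤ r) :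
    ¬ (r : ℤ) ∣ (CyclicTorus.kry (kM L) (rv s)).det := by
  have h := chk_all hL
  simp only [chkW, Bool.and_eq_true, Bool.or_eq_true, Bool.not_eq_true'] at h
  have hk : kills (rowR (-1) (rowsK L)) = true := (kills_iff fun v => toV_rowR (-1) _ v).2 h0
  simp only [hk, Bool.true_eq_false, false_or, List.all_eq_true, List.mem_range'_1] at h
  have hi := h.1.1.1.2 s ⟨hs, by omega⟩
  rw [indep4] at hi
  refine fun hd => not_dvd_of_smooth hi hr hr5 ?_
  rw [← det4_eq]
  refine hd.trans (dvd_of_eq (congrArg Matrix.det (Matrix.ext fun i j => ?_)))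
  rw [CyclicTorus.kry]
  show (toV (tabV (rootV s)) ᵥ* kM L ^ (i : ℕ)) j = _
  fin_cases i <;>
    simp only [Fin.reduceFinMk, Fin.isValue] <;>
    simp only [pow_succ, pow_zero, one_mul, Matrix.vecMul_one, ← Matrix.vecMul_vecMul, kM, ← toV_vmul] <;>
    rfl

end CfsgLib.Known.PrimeGraphF4
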